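import Cfsg.Agent.H34.RegularTorus

/-!
Coordinates of the group of the positive roots that a Weyl element makes negative.
-/

set_option autoImplicit false
set_option linter.unusedSectionVars false

open Cfsg.Lie
open scoped MatrixGroups

namespace H60.C5

open H34.Tori

variable {D : ChevalleyDatum} (C : H54.Ctx D) {E : Type*} [Field E]

/-- The positive roots made negative. -/
def invP (L : List (Fin D.rank)) (r : ℕ) : Prop :=
  ∃ hr : r < D.nroots, D.nroots / 2 ≤ r ∧ (C.wperm L ⟨r, hr⟩).val < D.nroots / 2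

theorem invP_comm {L : List (Fin D.rank)} {r s : ℕ} (hr : invP C L r) (hs : invP C L s) (t u : E)
    {p : ℕ × E} (hp : p ∈ D.commWord E r s t u) : p.1 < D.nroots ∧ r < p.1 ∧ invP C L p.1 := by
  obtain ⟨hr, hrN, hrπ⟩ := hr
  obtain ⟨hs, hsN, hsπ⟩ := hs
  obtain ⟨c, hc, rfl⟩ := List.mem_map.1 hp
  obtain ⟨hi, hj, hco⟩ := C.hC.commTerms_co hr hs c hc
  have hlt : c.1 < D.nroots := C.hC.commTerms_lt c hc
  set i := c.2.2.1
  set j := c.2.2.2
  have lin : ∀ a b f : ℕ → ℤ, (∀ k < D.rank, f k = (i : ℤ) * a k + (j : ℤ) * b k) →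
      H52.keyOf D.rank f = (i : ℤ) * H52.keyOf D.rank a + (j : ℤ) * H52.keyOf D.rank b := fun a b f h => by
    have z : ∀ n, H52.keyOf n (fun _ => (0 : ℤ)) = 0 := fun n => by
      induction n with
      | zero => rfl
      | succ n ih => simp only [H52.keyOf, List.range_succ, List.foldl_append, List.foldl_cons,
          List.foldl_nil] at *; rw [ih]; ring
    have h1 := H52.Checked.keyOf_add_smul D.rank (fun _ => 0) a (i : ℤ)
    rw [z, zero_add] at h1
    rw [H52.Checked.keyOf_congr D.rank f (fun k => (i : ℤ) * a k + (j : ℤ) * b k) h,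
      H52.Checked.keyOf_add_smul D.rank (fun k => (i : ℤ) * a k) b (j : ℤ)]
    congr 1
    simpa using h1
  have i1 : (1 : ℤ) ≤ i := by exact_mod_cast hi
  have j1 : (1 : ℤ) ≤ j := by exact_mod_cast hj
  have k1 := (C.hC.key_pos_iff hr).2 hrN
  have k2 := (C.hC.key_pos_iff hs).2 hsN
  have hkey := lin _ _ _ hco
  have hgt : r < c.1 := (C.hC.key_lt_iff hr hlt).1 (by rw [hkey]; nlinarith)
  refine ⟨hlt, hgt, hlt, le_trans hrN hgt.le, ?_⟩
  have hcov : ∀ k : Fin D.rank, C.T.co (C.wperm L ⟨c.1, hlt⟩).val k.val =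
      (i : ℤ) * C.T.co (C.wperm L ⟨r, hr⟩).val k.val + (j : ℤ) * C.T.co (C.wperm L ⟨s, hs⟩).val k.val := by
    have e : cov C (⟨c.1, hlt⟩ : Fin D.nroots) = (i : ℤ) • cov C ⟨r, hr⟩ + (j : ℤ) • cov C ⟨s, hs⟩ := by
      funext k
      simpa [cov] using hco k.val k.isLt
    intro k
    have h := congrFun (lmat_spec C (wperm_mem_wgrp C L) ⟨c.1, hlt⟩) k
    rw [e, Matrix.mulVec_add, Matrix.mulVec_smul, Matrix.mulVec_smul,
      lmat_spec C (wperm_mem_wgrp C L), lmat_spec C (wperm_mem_wgrp C L)] at h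
    simpa [cov] using h.symm
  have hkey' := lin _ _ _ (fun k hk => hcov ⟨k, hk⟩)
  by_contra hneg
  rw [not_lt] at hneg
  have k3 := (C.hC.key_pos_iff (C.wperm L ⟨c.1, hlt⟩).isLt).2 hneg
  have k4 : ¬ 0 < H52.keyOf D.rank (C.T.co (C.wperm L ⟨r, hr⟩).val) := fun h =>
    absurd ((C.hC.key_pos_iff (C.wperm L ⟨r, hr⟩).isLt).1 h) (by omega)
  have k5 : ¬ 0 < H52.keyOf D.rank (C.T.co (C.wperm L ⟨s, hs⟩).val) := fun h =>
    absurd ((C.hC.key_pos_iff (C.wperm L ⟨s, hs⟩).isLt).1 h) (by omega)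
  rw [hkey'] at k3
  nlinarith

/-- The inverted root subgroups of index at least `k`. -/
def upperP (L : List (Fin D.rank)) (E : Type*) [Field E] (k : ℕ) : Subgroup (GL D.Idx E) :=
  Subgroup.closure {g | ∃ (r : ℕ) (t : E), k ≤ r ∧ invP C L r ∧ g = H52.rt D r t}

theorem rt_conj_upperP {L : List (Fin D.rank)} {k : ℕ} (hk : invP C L k) (a : E) {g : GL D.Idx E}
    (hg : g ∈ upperP C L E (k + 1)) :
    (H52.rt D k a)⁻¹ * g * H52.rt D k a ∈ upperP C L E (k + 1) := by
  induction hg using Subgroup.closure_induction with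
  | mem g hg =>
    obtain ⟨m, u, hm, hm2, rfl⟩ := hg
    have hne' : m ≠ D.neg k := by
      rw [C.hC.neg_eq hk.1]; have := C.hC.nroots_eq; have := hk.2.1; omega
    rw [mul_assoc, C.hC.comm_rt hk.1 hm2.1 (by omega) hne', mul_assoc, inv_mul_cancel_left]
    refine mul_mem (Subgroup.subset_closure ⟨m, u, hm, hm2, rfl⟩) (H52.Checked.wordRt_mem _ _ fun p hp => ?_)
    obtain ⟨-, hlt, hP⟩ := invP_comm C hk hm2 a u hp
    exact Subgroup.subset_closure ⟨p.1, p.2, hlt, hP, rfl⟩
  | one => simp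
  | mul x y _ _ hx hy =>
    have : (H52.rt D k a)⁻¹ * (x * y) * H52.rt D k a =
        ((H52.rt D k a)⁻¹ * x * H52.rt D k a) * ((H52.rt D k a)⁻¹ * y * H52.rt D k a) := by group
    rw [this]; exact mul_mem hx hy
  | inv x _ hx =>
    have : (H52.rt D k a)⁻¹ * x⁻¹ * H52.rt D k a = ((H52.rt D k a)⁻¹ * x * H52.rt D k a)⁻¹ := by group
    rw [this]; exact inv_mem hx

theorem exists_upperP_split {L : List (Fin D.rank)} (k : ℕ) {g : GL D.Idx E} (hg : g ∈ upperP C L E k) :
    ∃ a : E, (¬ invP C L k → a = 0) ∧ ∃ g' ∈ upperP C L E (k + 1), g = H52.rt D k a * g' := by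
  by_cases hP : invP C L k
  · induction hg using Subgroup.closure_induction with
    | mem g hg =>
      obtain ⟨m, u, hm, hm2, rfl⟩ := hg
      by_cases hkm : m = k
      · subst hkm; exact ⟨u, fun h => absurd hP h, 1, one_mem _, by simp⟩
      · exact ⟨0, fun _ => rfl, H52.rt D m u, Subgroup.subset_closure ⟨m, u, by omega, hm2, rfl⟩,
          by simp [C.hC.rt_zero]⟩
    | one => exact ⟨0, fun _ => rfl, 1, one_mem _, by simp [C.hC.rt_zero]⟩
    | mul x y _ _ hx hy =>
      obtain ⟨a, -, x', hx', rfl⟩ := hx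
      obtain ⟨b, -, y', hy', rfl⟩ := hy
      refine ⟨a + b, fun h => absurd hP h, ((H52.rt D k b)⁻¹ * x' * H52.rt D k b) * y',
        mul_mem (rt_conj_upperP C hP b hx') hy', ?_⟩
      rw [← C.hC.rt_mul]; group
    | inv x _ hx =>
      obtain ⟨a, -, x', hx', rfl⟩ := hx
      refine ⟨-a, fun h => absurd hP h, (H52.rt D k (-a))⁻¹ * x'⁻¹ * H52.rt D k (-a),
        rt_conj_upperP C hP (-a) (inv_mem hx'), ?_⟩
      rw [← C.hC.rt_inv]; group
  · refine ⟨0, fun _ => rfl, g, ?_, by simp [C.hC.rt_zero]⟩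
    refine (Subgroup.closure_le _).2 ?_ hg
    rintro _ ⟨m, u, hm, hm2, rfl⟩
    refine Subgroup.subset_closure ⟨m, u, ?_, hm2, rfl⟩
    rcases hm.eq_or_lt with rfl | h
    exacts [absurd hm2 hP, h]

theorem exists_upProd_upperP {L : List (Fin D.rank)} : ∀ (n k : ℕ), D.nroots ≤ k + n →
    ∀ {g : GL D.Idx E}, g ∈ upperP C L E k →
      ∃ a : ℕ → E, g = H52.upProd D k a ∧ ∀ r, k ≤ r → r < D.nroots → ¬ invP C L r → a r = 0 := by
  intro n
  induction n with
  | zero =>
    intro k hk g hg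
    refine ⟨fun _ => 0, ?_, fun _ _ _ _ => rfl⟩
    have hbot : upperP C L E k = ⊥ := by
      rw [upperP, Subgroup.closure_eq_bot_iff]
      rintro g ⟨r, t, h1, h2, -⟩
      exact absurd h2.1 (by omega)
    rw [hbot, Subgroup.mem_bot] at hg
    simp [hg, H52.upProd, H52.wordRt, show D.nroots - k = 0 by omega]
  | succ n ih =>
    intro k hk g hg
    obtain ⟨a, ha, g', hg', rfl⟩ := exists_upperP_split C k hg
    obtain ⟨b, rfl, hb⟩ := ih (k + 1) (by omega) hg'
    by_cases hlt : k < D.nroots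
    · refine ⟨Function.update b k a, ?_, fun r hr hr2 hP => ?_⟩
      · rw [H52.Checked.upProd_step hlt, Function.update_self]
        congr 1
        exact H52.Checked.upProd_congr fun r hr _ => (Function.update_of_ne (by omega) _ _).symm
      · rcases hr.eq_or_lt with rfl | h
        · rw [Function.update_self]; exact ha hP
        · rw [Function.update_of_ne (by omega)]; exact hb r h hr2 hP
    · refine ⟨fun _ => 0, ?_, fun _ _ _ _ => rfl⟩
      rw [ha fun h => hlt h.1, C.hC.rt_zero, one_mul]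
      simp [H52.upProd, H52.wordRt, show D.nroots - (k + 1) = 0 by omega, show D.nroots - k = 0 by omega]

/-- Coordinates of the inverted group vanish outside the inverted roots. -/
theorem uinv_upProd {L : List (Fin D.rank)} {v : GL D.Idx E} (hv : v ∈ H54.Ctx.uinv D E (C.wperm L)) :
    ∃ a : ℕ → E, v = H52.upProd D (D.nroots / 2) a ∧
      ∀ r, D.nroots / 2 ≤ r → r < D.nroots → ¬ invP C L r → a r = 0 := by
  refine exists_upProd_upperP C D.nroots _ (by omega) ?_
  refine (Subgroup.closure_le _).2 ?_ hv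
  rintro _ ⟨r, t, h1, h2, rfl⟩
  exact Subgroup.subset_closure ⟨r.val, t, h1, ⟨r.isLt, h1, h2⟩, rfl⟩

variable {N : ℕ} (e : Multiplicative (ZMod N) ≃* Eˣ)

/-- The character of a weight on all indices. -/
noncomputable def chi (f : Fin D.rank → ZMod N) (r : ℕ) : E :=
  if hr : r < D.nroots then (uval e (rval C f ⟨r, hr⟩) : E) else 1

theorem tor_conj_upProd (f : Fin D.rank → ZMod N) (a : ℕ → E) : ∀ n k : ℕ, D.nroots ≤ k + n →
    tor C e f * H52.upProd D k a * (tor C e f)⁻¹ = H52.upProd D k fun r => chi C e f r * a r := by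
  intro n
  induction n with
  | zero =>
    intro k hk
    simp [H52.upProd, H52.wordRt, show D.nroots - k = 0 by omega]
  | succ n ih =>
    intro k hk
    by_cases hlt : k < D.nroots
    · rw [H52.Checked.upProd_step hlt a, H52.Checked.upProd_step hlt (fun r => chi C e f r * a r),
        show tor C e f * (H52.rt D k (a k) * H52.upProd D (k + 1) a) * (tor C e f)⁻¹ =
          tor C e f * H52.rt D k (a k) * (tor C e f)⁻¹ *
            (tor C e f * H52.upProd D (k + 1) a * (tor C e f)⁻¹) by group,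
        ih (k + 1) (by omega), tor_conj_rt C e f ⟨k, by omega⟩]
      simp [chi, hlt]
    · simp [H52.upProd, H52.wordRt, show D.nroots - k = 0 by omega]

theorem coord_zero {f : Fin D.rank → ZMod N} {a : ℕ → E}
    (h : tor C e f * H52.upProd D (D.nroots / 2) a * (tor C e f)⁻¹ = H52.upProd D (D.nroots / 2) a)
    {r : ℕ} (hr : D.nroots / 2 ≤ r) (hr' : r < D.nroots) (hne : rval C f ⟨r, hr'⟩ ≠ 0) : a r = 0 := by
  rw [tor_conj_upProd C e f a D.nroots _ (by omega)] at h
  have h2 := C.hC.upProd_injective le_rfl h r hr hr'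
  simp only [chi, dif_pos hr', mul_left_eq_self₀] at h2
  exact h2.resolve_left fun h3 => hne (uval_injective e (by rw [uval_zero]; exact Units.ext h3))

end H60.C5
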