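import Mathlib

/-!
The field with sixteen elements over the field with four, with a fifth root of unity.
-/

set_option autoImplicit false

namespace H60.C5

open Polynomial

universe u

theorem five_and_three {E : Type*} [Field E] [CharP E 2] {v z : E} (hv : v * v = v + 1)
    (hz : z * z = v * z + 1) : z ^ 5 = 1 ∧ v ^ 3 = 1 := by
  have h2 : (2 : E) = 0 := CharTwo.two_eq_zero
  constructor <;> grind

theorem exists_ext16 {K : Type u} [Field K] [Fintype K] [CharP K 2] (hK : Fintype.card K = 4) {w : K}
    (hw : w * w = w + 1) :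
    ∃ (E : Type u) (_ : Field E) (_ : Fintype E) (_ : CharP E 2) (ι : K →+* E)
      (e : Multiplicative (ZMod 15) ≃* Eˣ) (z : E),
      z * z = ι w * z + 1 ∧ (e (Multiplicative.ofAdd (3 : ZMod 15)) : E) = z := by
  classical
  set p : K[X] := X ^ 2 + C w * X + 1 with hp
  have hdeg : p.natDegree = 2 := by rw [hp]; compute_degree!
  have hmon : p.Monic := by rw [hp]; monicity!
  have hw0 : w ≠ 0 := fun h => by simp [h] at hw
  have hw1 : w ≠ 1 := fun h => by simp [h] at hw
  have hw2 : w + 1 ≠ 0 := fun h => hw1 (by rw [← CharTwo.neg_eq (1 : K)]; exact eq_neg_of_add_eq_zero_left h)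
  have hall : ∀ a : K, a = 0 ∨ a = 1 ∨ a = w ∨ a = w + 1 := by
    intro a
    have hcard : ({0, 1, w, w + 1} : Finset K).card = 4 := by
      rw [Finset.card_insert_of_notMem, Finset.card_insert_of_notMem, Finset.card_insert_of_notMem,
        Finset.card_singleton]
      · simp
      · simp [Ne.symm hw1, hw0]
      · simp [Ne.symm hw0, Ne.symm hw2]
    have : a ∈ ({0, 1, w, w + 1} : Finset K) := by
      rw [Finset.eq_univ_of_card _ (hcard.trans hK.symm)]
      exact Finset.mem_univ _
    simpa using this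
  haveI hirr : Fact (Irreducible p) := ⟨by
    rw [Polynomial.irreducible_iff_roots_eq_zero_of_degree_le_three (by omega) (by omega)]
    refine Multiset.eq_zero_of_forall_notMem fun a ha => ?_
    rw [mem_roots hmon.ne_zero, IsRoot.def, hp] at ha
    simp only [eval_add, eval_pow, eval_X, eval_mul, eval_C, eval_one] at ha
    rcases hall a with h | h | h | h <;> subst h <;> grind⟩
  let E := AdjoinRoot p
  let ι : K →+* E := AdjoinRoot.of p
  let z : E := AdjoinRoot.root p
  haveI : CharP E 2 := charP_of_injective_ringHom ι.injective 2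
  haveI : Module.Finite K E := (AdjoinRoot.powerBasis hmon.ne_zero).finite
  haveI : Finite E := Module.finite_of_finite K
  letI : Fintype E := Fintype.ofFinite E
  have hE : Nat.card Eˣ = 15 := by
    rw [Nat.card_units, Nat.card_eq_fintype_card, Module.card_eq_pow_finrank (K := K), hK,
      (AdjoinRoot.powerBasis hmon.ne_zero).finrank, AdjoinRoot.powerBasis_dim, hdeg]
    norm_num
  have h2 : (2 : E) = 0 := CharTwo.two_eq_zero
  have hz : z * z = ι w * z + 1 := by
    have h := AdjoinRoot.eval₂_root p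
    rw [hp] at h
    simp only [eval₂_add, eval₂_pow, eval₂_X, eval₂_mul, eval₂_C, eval₂_one] at h
    linear_combination h - (ι w * z + 1) * h2
  have hι : ι w * ι w = ι w + 1 := by rw [← map_mul, hw, map_add, map_one]
  have hv0 : ι w ≠ 0 := (map_ne_zero ι).2 hw0
  have hv1 : ι w ≠ 1 := fun h => hw1 (ι.injective (h.trans (map_one ι).symm))
  have hz0 : z ≠ 0 := fun h => by rw [h] at hz; simp at hz
  obtain ⟨hz5, hv3⟩ := five_and_three (E := E) hι hz
  have hz1 : z ≠ 1 := fun h => by
    rw [h] at hz
    have : ι w = 0 := by linear_combination -hz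
    exact hv0 this
  let ξ : Eˣ := Units.mk0 (z ^ 2 * ι w) (mul_ne_zero (pow_ne_zero 2 hz0) hv0)
  have hξ3 : (ξ : E) ^ 3 = z := by
    show (z ^ 2 * ι w) ^ 3 = z
    calc (z ^ 2 * ι w) ^ 3 = z ^ 5 * z * ι w ^ 3 := by ring
      _ = z := by rw [hz5, hv3]; ring
  have hord : orderOf ξ = 15 := by
    have hdvd : orderOf ξ ∣ 15 := hE ▸ orderOf_dvd_natCard ξ
    have h3 : ¬ orderOf ξ ∣ 3 := fun h => hz1 (by
      rw [← hξ3, ← Units.val_pow_eq_pow_val, orderOf_dvd_iff_pow_eq_one.1 h, Units.val_one])
    have h5 : ¬ orderOf ξ ∣ 5 := fun h => hv1 (by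
      have e : (z ^ 2 * ι w) ^ 5 = 1 := by
        have := congrArg Units.val (orderOf_dvd_iff_pow_eq_one.1 h)
        rwa [Units.val_pow_eq_pow_val, Units.val_one] at this
      have e2 : ι w ^ 2 = 1 := by
        calc ι w ^ 2 = (z ^ 5) ^ 2 * (ι w ^ 3 * ι w ^ 2) := by rw [hz5, hv3]; ring
          _ = (z ^ 2 * ι w) ^ 5 := by ring
          _ = 1 := e
      calc ι w = ι w * ι w ^ 2 := by rw [e2, mul_one]
        _ = ι w ^ 3 := by ring
        _ = 1 := hv3)
    have hle := Nat.le_of_dvd (by norm_num) hdvd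
    generalize orderOf ξ = n at hdvd h3 h5 hle
    interval_cases n <;> omega
  let f : Multiplicative (ZMod 15) →* Eˣ :=
    { toFun := fun a => ξ ^ (Multiplicative.toAdd a).val
      map_one' := by simp
      map_mul' := fun a b => by
        rw [← pow_add, toAdd_mul, ZMod.val_add]
        conv_rhs => rw [← pow_mod_orderOf, hord] }
  have hf : Function.Bijective f := by
    refine (Nat.bijective_iff_injective_and_card _).2 ⟨fun a b h => ?_, ?_⟩
    · exact Multiplicative.toAdd.injective (ZMod.val_injective 15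
        (pow_injOn_Iio_orderOf (by rw [Set.mem_Iio, hord]; exact ZMod.val_lt _)
          (by rw [Set.mem_Iio, hord]; exact ZMod.val_lt _) h))
    · rw [hE, Nat.card_congr Multiplicative.toAdd, Nat.card_zmod]
  refine ⟨E, inferInstance, inferInstance, inferInstance, ι, MulEquiv.ofBijective f hf, z, hz, ?_⟩
  show ((ξ ^ (3 : ZMod 15).val : Eˣ) : E) = z
  rw [Units.val_pow_eq_pow_val]
  exact hξ3

end H60.C5
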