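import Mathlib

/-!
A group with a Sylow 5-subgroup of order 25 all of whose non-trivial elements are fused by six given elements.
-/

set_option autoImplicit false

namespace H60.C5

variable {G : Type*} [Group G]

/-- Conjugating relations for a pair of commuting elements of order five. -/
structure Fusion (a b g k h l : G) : Prop where
  five_a : a ^ 5 = 1
  five_b : b ^ 5 = 1
  comm : Commute a b
  ne_b : ∀ n < 5, a ^ n ≠ b
  ne_a : a ≠ 1
  ga : g * a = a * (b * g)
  ka : k * a = b * k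
  ha : h * a = a * (a * h)
  hb : h * b = b * h
  lb : l * b = b * (b * l)
  la : l * a = a * l

namespace Fusion

variable {a b g k h l : G} (F : Fusion a b g k h l)
include F

theorem fuse_pair : ∀ n m : ℕ, IsConj a (a ^ 2 ^ n * b ^ 2 ^ m) ∧ IsConj a (a ^ 2 ^ n) ∧ IsConj a (b ^ 2 ^ m) := by
  have hh : MulAut.conj h a = a ^ 2 ∧ MulAut.conj h b = b :=
    ⟨by rw [MulAut.conj_apply, F.ha, pow_two]; group, by rw [MulAut.conj_apply, F.hb]; group⟩
  have hl : MulAut.conj l b = b ^ 2 ∧ MulAut.conj l a = a :=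
    ⟨by rw [MulAut.conj_apply, F.lb, pow_two]; group, by rw [MulAut.conj_apply, F.la]; group⟩
  have step : ∀ {c y : G} (z : G), IsConj c y → IsConj c (MulAut.conj z y) := fun z hy =>
    hy.trans (isConj_iff.2 ⟨z, rfl⟩)
  have hkb : IsConj a b := isConj_iff.2 ⟨k, by rw [F.ka]; group⟩
  have hgab : IsConj a (a * b) := isConj_iff.2 ⟨g, by rw [F.ga]; group⟩
  have p1 : ∀ n, IsConj a (a ^ 2 ^ n) := by
    intro n
    induction n with
    | zero => rw [pow_zero, pow_one]
    | succ n ih =>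
      have := step h ih
      rwa [map_pow, hh.1, ← pow_mul, ← pow_succ'] at this
  have p2 : ∀ m, IsConj a (b ^ 2 ^ m) := by
    intro m
    induction m with
    | zero => simpa using hkb
    | succ m ih =>
      have := step l ih
      rwa [map_pow, hl.1, ← pow_mul, ← pow_succ'] at this
  intro n m
  refine ⟨?_, p1 n, p2 m⟩
  induction m with
  | zero =>
    induction n with
    | zero => simpa using hgab
    | succ n ih =>
      have := step h ih
      rwa [map_mul, map_pow, map_pow, hh.1, hh.2, ← pow_mul, ← pow_succ'] at this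
  | succ m ih =>
    have := step l ih
    rwa [map_mul, map_pow, map_pow, hl.1, hl.2, ← pow_mul, ← pow_succ'] at this

theorem fuse_span {i j : ℕ} (hi : i < 5) (hj : j < 5) (hne : a ^ i * b ^ j ≠ 1) :
    IsConj a (a ^ i * b ^ j) := by
  have key : ∀ r < 5, r ≠ 0 → ∃ n, ∀ c : G, c ^ 5 = 1 → c ^ r = c ^ 2 ^ n := by
    intro r hr hr0
    obtain ⟨n, hn⟩ : ∃ n, 2 ^ n % 5 = r := by
      interval_cases r
      · exact absurd rfl hr0
      exacts [⟨0, rfl⟩, ⟨1, rfl⟩, ⟨3, rfl⟩, ⟨2, rfl⟩]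
    exact ⟨n, fun c hc => by rw [pow_eq_pow_mod (2 ^ n) hc, hn]⟩
  rcases Nat.eq_zero_or_pos i with rfl | hi0
  · rcases Nat.eq_zero_or_pos j with rfl | hj0
    · simp at hne
    obtain ⟨m, hm⟩ := key j hj hj0.ne'
    simpa [hm b F.five_b] using (F.fuse_pair 0 m).2.2
  · obtain ⟨n, hn⟩ := key i hi hi0.ne'
    rcases Nat.eq_zero_or_pos j with rfl | hj0
    · simpa [hn a F.five_a] using (F.fuse_pair n 0).2.1
    obtain ⟨m, hm⟩ := key j hj hj0.ne'
    simpa [hn a F.five_a, hm b F.five_b] using (F.fuse_pair n m).1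

theorem conj_of_sylow [Finite G] (hcard : ∃ m, Nat.card G = 25 * m ∧ ¬ 5 ∣ m) {x : G}
    (hx : orderOf x = 5) : IsConj a x := by
  classical
  have : Fact (Nat.Prime 5) := ⟨Nat.prime_five⟩
  let P₀ : Subgroup G :=
    { carrier := {z | ∃ i j : ℕ, i < 5 ∧ j < 5 ∧ z = a ^ i * b ^ j}
      one_mem' := ⟨0, 0, by norm_num, by norm_num, by simp⟩
      mul_mem' := by
        rintro _ _ ⟨i, j, hi, hj, rfl⟩ ⟨i', j', hi', hj', rfl⟩
        refine ⟨(i + i') % 5, (j + j') % 5, Nat.mod_lt _ (by norm_num), Nat.mod_lt _ (by norm_num), ?_⟩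
        rw [← pow_eq_pow_mod _ F.five_a, ← pow_eq_pow_mod _ F.five_b, pow_add, pow_add,
          ((F.comm.symm.pow_pow j i').mul_mul_mul_comm (a ^ i) (b ^ j'))]
      inv_mem' := by
        rintro _ ⟨i, j, hi, hj, rfl⟩
        refine ⟨(5 - i) % 5, (5 - j) % 5, Nat.mod_lt _ (by norm_num), Nat.mod_lt _ (by norm_num), ?_⟩
        rw [← pow_eq_pow_mod _ F.five_a, ← pow_eq_pow_mod _ F.five_b, mul_inv_rev,
          (F.comm.pow_pow _ _).inv_inv.symm.eq]
        congr 1 <;> rw [inv_eq_iff_mul_eq_one, ← pow_add] <;>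
          rw [Nat.add_sub_cancel' (by omega)]
        exacts [F.five_a, F.five_b] }
  have hP : Nat.card P₀ = 5 ^ 2 := by
    let f : Fin 5 × Fin 5 → P₀ := fun p => ⟨a ^ p.1.val * b ^ p.2.val, p.1, p.2, p.1.isLt, p.2.isLt, rfl⟩
    have hf : Function.Bijective f := by
      refine ⟨fun p q he => ?_, fun z => ?_⟩
      · have hord : orderOf a = 5 := orderOf_eq_prime F.five_a F.ne_a
        have hb0 : b ≠ 1 := fun e => F.ne_b 0 (by norm_num) (by simp [e])
        have hordb : orderOf b = 5 := orderOf_eq_prime F.five_b hb0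
        have hd : Disjoint (Subgroup.zpowers a) (Subgroup.zpowers b) := by
          rw [disjoint_iff]
          by_contra hne
          have hdv := Subgroup.card_dvd_of_le (inf_le_right : Subgroup.zpowers a ⊓ Subgroup.zpowers b ≤ _)
          rw [Nat.card_zpowers, hordb] at hdv
          rcases (Nat.dvd_prime Nat.prime_five).1 hdv with h1 | h5
          · exact hne (Subgroup.eq_bot_of_card_eq _ h1)
          · haveI : Finite ↥(Subgroup.zpowers b) := inferInstance
            have e := Subgroup.eq_of_le_of_card_ge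
              (inf_le_right : Subgroup.zpowers a ⊓ Subgroup.zpowers b ≤ _)
              (by rw [h5, Nat.card_zpowers, hordb])
            have hb : b ∈ Subgroup.zpowers a := (inf_eq_right.1 e) (Subgroup.mem_zpowers b)
            rw [mem_zpowers_iff_mem_range_orderOf, hord, Finset.mem_image] at hb
            obtain ⟨n, hn, hnb⟩ := hb
            exact F.ne_b n (Finset.mem_range.1 hn) hnb
        have h1 : a ^ p.1.val * b ^ p.2.val = a ^ q.1.val * b ^ q.2.val := congrArg Subtype.val he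
        have h2 := Subgroup.mul_injective_of_disjoint hd
          (a₁ := (⟨a ^ p.1.val, Subgroup.npow_mem_zpowers _ _⟩, ⟨b ^ p.2.val, Subgroup.npow_mem_zpowers _ _⟩))
          (a₂ := (⟨a ^ q.1.val, Subgroup.npow_mem_zpowers _ _⟩, ⟨b ^ q.2.val, Subgroup.npow_mem_zpowers _ _⟩)) h1
        simp only [Prod.mk.injEq, Subtype.mk.injEq] at h2
        refine Prod.ext (Fin.ext (pow_injOn_Iio_orderOf ?_ ?_ h2.1))
          (Fin.ext (pow_injOn_Iio_orderOf ?_ ?_ h2.2)) <;>
          rw [Set.mem_Iio] <;> first | rw [hord] | rw [hordb]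
        all_goals exact Fin.isLt _
      · obtain ⟨i, j, hi, hj, hz⟩ := z.2
        exact ⟨(⟨i, hi⟩, ⟨j, hj⟩), Subtype.ext hz.symm⟩
    rw [← Nat.card_eq_of_bijective f hf]
    simp
  obtain ⟨m, hm, hm5⟩ := hcard
  let P : Sylow 5 G := Sylow.ofCard P₀ (by
    rw [hP]
    congr 1
    have h0 : m ≠ 0 := fun e => hm5 (e ▸ dvd_zero 5)
    rw [hm, Nat.factorization_mul (by norm_num) h0, Finsupp.add_apply,
      Nat.factorization_eq_zero_of_not_dvd hm5, show (25 : ℕ) = 5 ^ 2 by norm_num,
      Nat.Prime.factorization_pow Nat.prime_five]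
    simp)
  have hz : IsPGroup 5 (Subgroup.zpowers x) :=
    IsPGroup.of_card (n := 1) (by rw [Nat.card_zpowers, hx, pow_one])
  obtain ⟨Q, hQ⟩ := hz.exists_le_sylow
  obtain ⟨c, hc⟩ := MulAction.exists_smul_eq G Q P
  have hxQ : x ∈ (Q : Subgroup G) := hQ (Subgroup.mem_zpowers x)
  have hcx : c * x * c⁻¹ ∈ (P : Subgroup G) := by
    rw [← hc, Sylow.coe_subgroup_smul]
    exact Subgroup.mem_map_of_mem _ hxQ
  obtain ⟨i, j, hi, hj, he⟩ : ∃ i j : ℕ, i < 5 ∧ j < 5 ∧ c * x * c⁻¹ = a ^ i * b ^ j := by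
    simpa [P, P₀] using hcx
  have hne : a ^ i * b ^ j ≠ 1 := by
    rw [← he]
    intro e
    have : x = 1 := by simpa using e
    rw [this, orderOf_one] at hx
    norm_num at hx
  exact (F.fuse_span hi hj hne).trans (isConj_iff.2 ⟨c⁻¹, by rw [← he]; group⟩)

end Fusion

end H60.C5
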