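import Cfsg.Agent.H60.C5.Cert
import Cfsg.Agent.H60.C5.Conj
import Cfsg.Agent.H60.C5.Alt
import Cfsg.Agent.H52.TwistOrderE6

/-!
The elements of order five of ²E₆(2) and their centralisers, granted a bound on one centraliser.
-/

set_option autoImplicit false
set_option maxRecDepth 100000

namespace H60.C5

open Cfsg.Lie H52 H60.TE6

attribute [local irreducible] step idY delta scale

variable {K : Type*} [Field K] [CharP K 2] {w : K} (hw : w * w = w + 1)

/-- The product of a word in generators. -/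
noncomputable def gp (w : K) (l : List ℕ) : GL chevE6.Idx K := (l.map (gl w)).prod

omit [CharP K 2] in
theorem el_lw_append (a b : List ℕ) : el w (lw (a ++ b)) = el w (lw a) * el w (lw b) := by
  rw [lw, List.flatMap_append]; exact el_append _ _

omit [CharP K 2] in
theorem el_lw_wrep (l : List ℕ) : ∀ n, el w (lw (wrep l n)) = el w (lw l) ^ n
  | 0 => by simp [wrep, lw, el, kw, wordRt]
  | n + 1 => by rw [show wrep l (n + 1) = l ++ wrep l n from rfl, el_lw_append, el_lw_wrep l n, pow_succ']

theorem letters_small : ∀ k < 16, ∀ p ∈ letters.getD k [], p.1 < 12 ∧ p.2 < 4 := by decide +kernel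

theorem lw_small {l : List ℕ} (hl : ∀ k ∈ l, k < 16) : ∀ p ∈ lw l, p.1 < 12 ∧ p.2 < 4 := by
  intro p hp
  obtain ⟨k, hk, hp⟩ := List.mem_flatMap.1 hp
  exact letters_small k (hl k hk) p hp

theorem wrep_small {l : List ℕ} {b : ℕ} (hl : ∀ k ∈ l, k < b) : ∀ n, ∀ k ∈ wrep l n, k < b := by
  intro n
  induction n with
  | zero => simp [wrep]
  | succ n ih =>
    intro k hk
    rcases List.mem_append.1 hk with h | h
    exacts [hl k h, ih k h]

theorem code_onto : ∀ i < 78, ∃ x : chevE6.Idx, code chevE6 x = i := by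
  intro i hi
  by_cases h : i < 72
  · exact ⟨.inr ⟨i, h⟩, rfl⟩
  · exact ⟨.inl ⟨i - 72, show i - 72 < 6 by omega⟩, show 72 + (i - 72) = i by omega⟩

include hw

theorem ent_inj {a b : ℕ} (ha : a < 4) (hb : b < 4) (h : val w a = val w b) : a = b := by
  have h1 : val w (a ^^^ b) = val w a + val w b := by
    simp only [val, Nat.testBit_xor, b2k_xor]; ring
  rw [h, CharTwo.add_self_eq_zero] at h1
  exact Nat.xor_eq_zero_iff.1 (val_eq_zero hw (Nat.xor_lt_two_pow (n := 2) ha hb) h1)

theorem ne_of_sameB {X Y : ℕ} (h : (!sameB X Y) = true) : toK w X ≠ toK w Y := by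
  intro e
  have hall : sameB X Y = true := by
    simp only [sameB, List.all_eq_true, List.mem_range]
    intro i hi j hj
    obtain ⟨x, rfl⟩ := code_onto i hi
    obtain ⟨y, rfl⟩ := code_onto j hj
    have e2 := congrFun (congrFun e x) y
    have hlt : ∀ R k : ℕ, rent R k < 4 := fun R k => by
      unfold rent; cases R.testBit k <;> cases R.testBit (78 + k) <;> simp
    have := ent_inj hw (hlt (rowOf X (code chevE6 x)) (code chevE6 y))
      (hlt (rowOf Y (code chevE6 x)) (code chevE6 y)) (by rw [val_rent, val_rent]; exact e2)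
    rw [show ent X (code chevE6 x) (code chevE6 y) = _ from this]
    exact Nat.beq_refl _
  rw [hall] at h
  exact Bool.noConfusion h

theorem el_one {l : List ℕ} (hl : ∀ k ∈ l, k < 16) (h : oneB l = true) : el w (lw l) = 1 := by
  apply Units.ext
  have := evL_toK hw (lw l) (lw_small hl) idY
  rwa [Nat.eq_of_beq_eq_true h, toK_idY, mul_one, eq_comm] at this

theorem el_ne_one {l : List ℕ} (hl : ∀ k ∈ l, k < 16) (h : (!sameB (evL (lw l) idY) idY) = true) :
    el w (lw l) ≠ 1 := fun e => by
  refine ne_of_sameB hw h ?_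
  rw [evL_toK hw _ (lw_small hl), e, Units.val_one, one_mul]

theorem el_eq {l l' : List ℕ} (hl : ∀ k ∈ l, k < 16) (hl' : ∀ k ∈ l', k < 16)
    (h : Nat.beq (evL (lw l) idY) (evL (lw l') idY) = true) : el w (lw l) = el w (lw l') := by
  apply Units.ext
  have e := congrArg (toK w) (Nat.eq_of_beq_eq_true h)
  rwa [evL_toK hw _ (lw_small hl), evL_toK hw _ (lw_small hl'), toK_idY, mul_one, mul_one] at e

theorem el_mem {l : List ℕ} (hl : ∀ k ∈ l, k < 16) : el w (lw l) ∈ twistedE6 K 2 := by
  induction l with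
  | nil => simp [lw, el, kw, wordRt, one_mem]
  | cons k l ih =>
    rw [lw, List.flatMap_cons, el_append]
    exact mul_mem (letter_mem hw (hl k List.mem_cons_self)) (ih fun q hq => hl q (List.mem_cons_of_mem _ hq))

theorem gp_eq {l l' : List ℕ} (hl : ∀ g ∈ l, g < 9) (hl' : ∀ g ∈ l', g < 9) (h : eqG l l' = true) :
    gp w l = gp w l' := by
  apply Units.ext
  have e := congrArg (toK w) (Nat.eq_of_beq_eq_true h)
  rwa [evG_toK hw l hl, evG_toK hw l' hl', toK_idY, mul_one, mul_one] at e

theorem gp_ne {l l' : List ℕ} (hl : ∀ g ∈ l, g < 9) (hl' : ∀ g ∈ l', g < 9) (h : neG l l' = true) :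
    gp w l ≠ gp w l' := fun e => by
  refine ne_of_sameB hw h ?_
  show toK w (evG l idY) = toK w (evG l' idY)
  rw [evG_toK hw l hl, evG_toK hw l' hl']
  exact congrArg (fun g : GL chevE6.Idx K => (g : Matrix chevE6.Idx chevE6.Idx K) * toK w idY) e

theorem gp_mem {l : List ℕ} (hl : ∀ g ∈ l, g < 9) : gp w l ∈ twistedE6 K 2 :=
  list_prod_mem fun g hg => by
    obtain ⟨i, hi, rfl⟩ := List.mem_map.1 hg
    exact gl_mem hw (hl i hi)

/-- The element of order five. -/
noncomputable def xG : ↥(twistedE6 K 2) := ⟨el w (lw xw), el_mem hw letters_lt.1⟩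

/-- The Carmichael generators of the factor of degree eight. -/
noncomputable def aG (i : ℕ) : ↥(twistedE6 K 2) := ⟨el w (lw (aw i)), el_mem hw (letters_lt.2 i)⟩

theorem xG_five : xG hw ^ 5 = 1 := by
  apply Subtype.ext
  show el w (lw xw) ^ 5 = 1
  rw [← el_lw_wrep]; exact el_one hw (wrep_small letters_lt.1 5) x_five

theorem xG_ne : xG hw ≠ 1 := fun e => el_ne_one hw letters_lt.1 x_ne (congrArg Subtype.val e)

theorem aG_ne : aG hw 0 ≠ 1 := fun e => el_ne_one hw (letters_lt.2 0) a_ne (congrArg Subtype.val e)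

theorem orderOf_xG : orderOf (xG hw) = 5 :=
  haveI : Fact (Nat.Prime 5) := ⟨Nat.prime_five⟩
  orderOf_eq_prime (xG_five hw) (xG_ne hw)

theorem aG_carm : H59.Carm (aG hw) 6 := by
  have two : ∀ i j : ℕ, ∀ k ∈ aw i ++ aw j, k < 16 := fun i j k hk => by
    rcases List.mem_append.1 hk with h | h
    exacts [letters_lt.2 i k h, letters_lt.2 j k h]
  constructor
  · intro _
    apply Subtype.ext
    show el w (lw (aw 0)) ^ 3 = 1
    rw [← el_lw_wrep]; exact el_one hw (wrep_small (letters_lt.2 0) 3) a_cube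
  · intro i h1 h2
    apply Subtype.ext
    show el w (lw (aw i)) ^ 2 = 1
    obtain ⟨i, rfl⟩ : ∃ j, i = j + 1 := ⟨i - 1, by omega⟩
    rw [← el_lw_wrep]
    exact el_one hw (wrep_small (letters_lt.2 _) 2) (List.all_eq_true.1 a_sq i (List.mem_range.2 (by omega)))
  · intro i hi
    apply Subtype.ext
    show (el w (lw (aw i)) * el w (lw (aw (i + 1)))) ^ 3 = 1
    rw [← el_lw_append, ← el_lw_wrep]
    exact el_one hw (wrep_small (two _ _) 3) (List.all_eq_true.1 a_braid i (List.mem_range.2 (by omega)))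
  · intro i j h1 h2
    apply Subtype.ext
    show (el w (lw (aw i)) * el w (lw (aw j))) ^ 2 = 1
    rw [← el_lw_append, ← el_lw_wrep]
    refine el_one hw (wrep_small (two _ _) 2) ?_
    have := List.all_eq_true.1 (List.all_eq_true.1 a_far i (List.mem_range.2 (by omega))) j
      (List.mem_range.2 h2)
    simpa [show ¬ j ≤ i + 1 by omega] using this

theorem aG_commute {i : ℕ} (hi : i < 6) : Commute (xG hw) (aG hw i) := by
  apply Subtype.ext
  show el w (lw xw) * el w (lw (aw i)) = el w (lw (aw i)) * el w (lw xw)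
  rw [← el_lw_append, ← el_lw_append]
  refine el_eq hw ?_ ?_ (List.all_eq_true.1 a_comm i (List.mem_range.2 hi)) <;>
    intro k hk <;> rcases List.mem_append.1 hk with h | h <;>
    first | exact letters_lt.1 k h | exact letters_lt.2 i k h

theorem fusion : ∃ a b g k h l : ↥(twistedE6 K 2), Fusion a b g k h l := by
  have hm : ∀ l ∈ [sa, sb, sg, sk, sh, sl], ∀ g ∈ l, g < 9 := gens_lt
  have ha := hm sa (by simp); have hb := hm sb (by simp); have hg := hm sg (by simp)
  have hk := hm sk (by simp); have hh := hm sh (by simp); have hl := hm sl (by simp)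
  have app : ∀ {p q : List ℕ}, (∀ g ∈ p, g < 9) → (∀ g ∈ q, g < 9) → ∀ g ∈ p ++ q, g < 9 :=
    fun hp hq g hg => (List.mem_append.1 hg).elim (hp g) (hq g)
  have pw : ∀ p n, gp w (wrep p n) = gp w p ^ n := fun p n => wrep_prod p n
  have mul : ∀ p q, gp w (p ++ q) = gp w p * gp w q := fun p q => by
    simp [gp, List.map_append, List.prod_append]
  have nil : gp w [] = 1 := rfl
  refine ⟨⟨_, gp_mem hw ha⟩, ⟨_, gp_mem hw hb⟩, ⟨_, gp_mem hw hg⟩, ⟨_, gp_mem hw hk⟩, ⟨_, gp_mem hw hh⟩,
    ⟨_, gp_mem hw hl⟩, ?_⟩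
  constructor
  · exact Subtype.ext ((pw sa 5).symm.trans ((gp_eq hw (wrep_small ha 5) (by simp) sa_five).trans nil))
  · exact Subtype.ext ((pw sb 5).symm.trans ((gp_eq hw (wrep_small hb 5) (by simp) sb_five).trans nil))
  · refine Subtype.ext ?_
    have := gp_eq hw (app ha hb) (app hb ha) sab
    rwa [mul, mul] at this
  · intro n hn e
    have h := gp_ne hw (wrep_small ha n) hb (List.all_eq_true.1 sb_ne n (List.mem_range.2 hn))
    rw [pw] at h
    exact h (congrArg Subtype.val e)
  · exact fun e => gp_ne hw ha (by simp) sa_ne ((congrArg Subtype.val e).trans nil.symm)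
  · refine Subtype.ext ?_
    have := gp_eq hw (app hg ha) (app ha (app hb hg)) sga
    rwa [mul, mul, mul] at this
  · refine Subtype.ext ?_
    have := gp_eq hw (app hk ha) (app hb hk) ska
    rwa [mul, mul] at this
  · refine Subtype.ext ?_
    have := gp_eq hw (app hh ha) (app ha (app ha hh)) sha
    rwa [mul, mul, mul] at this
  · refine Subtype.ext ?_
    have := gp_eq hw (app hh hb) (app hb hh) shb
    rwa [mul, mul] at this
  · refine Subtype.ext ?_
    have := gp_eq hw (app hl hb) (app hb (app hb hl)) slb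
    rwa [mul, mul, mul] at this
  · refine Subtype.ext ?_
    have := gp_eq hw (app hl ha) (app ha hl) sla
    rwa [mul, mul] at this

variable [Fintype K] (hK : Fintype.card K = 4)
include hK

theorem isConj_of_five (x y : ↥(twistedE6 K 2)) (hx : orderOf x = 5) (hy : orderOf y = 5) :
    IsConj x y := by
  obtain ⟨a, b, g, k, h, l, F⟩ := fusion hw
  have hcard := H52.e6t_card (K := K) (q := 2) Nat.prime_two.isPrimePow (by rw [hK]; rfl)
  have hm : ∃ m, Nat.card ↥(twistedE6 K 2) = 25 * m ∧ ¬ 5 ∣ m := by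
    refine ⟨Nat.card ↥(twistedE6 K 2) / 25, ?_, ?_⟩ <;> norm_num at hcard <;> omega
  exact (F.conj_of_sylow hm hx).symm.trans (F.conj_of_sylow hm hy)

theorem centralizer_equiv
    (hbound : Nat.card ↥(Subgroup.centralizer ({xG hw} : Set ↥(twistedE6 K 2))) ≤ 100800)
    (y : ↥(twistedE6 K 2)) (hy : orderOf y = 5) :
    Nonempty (↥(Subgroup.centralizer ({y} : Set ↥(twistedE6 K 2))) ≃*
      (Multiplicative (ZMod 5) × ↥(alternatingGroup (Fin 8)))) := by
  classical
  set x := xG hw with hx
  set C := Subgroup.centralizer ({x} : Set ↥(twistedE6 K 2)) with hC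
  obtain ⟨f, hf, hfr⟩ := exists_alt (aG hw) (aG_carm hw) (aG_ne hw)
  have hfC : f.range ≤ C := by
    refine hfr.trans ((Subgroup.closure_le _).2 ?_)
    rintro _ ⟨i, hi, rfl⟩
    exact Subgroup.mem_centralizer_singleton_iff.2 (aG_commute hw hi).eq.symm
  have h5 : Nat.card ↥(Subgroup.zpowers x) = 5 := by rw [Nat.card_zpowers, hx, orderOf_xG hw]
  haveI : IsCyclic (Multiplicative (ZMod 5)) := isCyclic_multiplicative
  let e : Multiplicative (ZMod 5) ≃* ↥(Subgroup.zpowers x) := mulEquivOfCyclicCardEq (by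
    rw [h5, Nat.card_congr Multiplicative.toAdd, Nat.card_zmod])
  let c : Multiplicative (ZMod 5) →* ↥(twistedE6 K 2) := (Subgroup.zpowers x).subtype.comp e.toMonoidHom
  have hcx : ∀ z, c z ∈ Subgroup.zpowers x := fun z => (e z).2
  have hcomm : ∀ z p, Commute (c z) (f p) := by
    intro z p
    obtain ⟨n, hn⟩ := Subgroup.mem_zpowers_iff.1 (hcx z)
    rw [← hn]
    exact Commute.zpow_left (Subgroup.mem_centralizer_singleton_iff.1 (hfC ⟨p, rfl⟩)).symm n
  let φ : Multiplicative (ZMod 5) × ↥(alternatingGroup (Fin 8)) →* ↥(twistedE6 K 2) := c.noncommCoprod f hcomm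
  have hφ : Function.Injective φ := by
    rw [← MonoidHom.ker_eq_bot_iff, Subgroup.eq_bot_iff_forall]
    rintro ⟨z, p⟩ h
    rw [MonoidHom.mem_ker, MonoidHom.noncommCoprod_apply] at h
    have hfp : f p = (c z)⁻¹ := eq_inv_of_mul_eq_one_right h
    have hp : p ∈ Subgroup.center ↥(alternatingGroup (Fin 8)) := by
      refine Subgroup.mem_center_iff.2 fun q => hf ?_
      rw [map_mul, map_mul, hfp]
      exact (hcomm z q).symm.inv_right.eq
    rw [alternatingGroup.center_eq_bot (by simp), Subgroup.mem_bot] at hp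
    subst hp
    rw [map_one, mul_one] at h
    have hz : z = 1 := e.injective (by
      rw [map_one]; exact Subtype.ext h)
    rw [hz]; rfl
  have hφC : ∀ p, φ p ∈ C := by
    rintro ⟨z, p⟩
    refine mul_mem ?_ (hfC ⟨p, rfl⟩)
    exact Subgroup.mem_centralizer_singleton_iff.2 (by
      obtain ⟨n, hn⟩ := Subgroup.mem_zpowers_iff.1 (hcx z)
      rw [← hn]; exact ((Commute.refl x).zpow_left n).eq)
  let ψ := φ.codRestrict C hφC
  have hinj : Function.Injective ψ := fun p q h => hφ (congrArg Subtype.val h)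
  have hA : 2 * Nat.card ↥(alternatingGroup (Fin 8)) = Nat.factorial 8 := by
    rw [two_mul_nat_card_alternatingGroup, Nat.card_perm, Nat.card_fin]
  have hA' : Nat.card ↥(alternatingGroup (Fin 8)) = 20160 := by
    rw [show Nat.factorial 8 = 40320 from rfl] at hA; omega
  have hle := Nat.card_le_card_of_injective ψ hinj
  have hsrc : Nat.card (Multiplicative (ZMod 5) × ↥(alternatingGroup (Fin 8))) = 100800 := by
    rw [Nat.card_prod, Nat.card_congr Multiplicative.toAdd, Nat.card_zmod, hA']
  have hbij : Function.Bijective ψ :=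
    (Nat.bijective_iff_injective_and_card _).2 ⟨hinj, le_antisymm hle (hbound.trans hsrc.ge)⟩
  obtain ⟨d, hd⟩ := isConj_iff.1 (isConj_of_five hw hK x y (orderOf_xG hw) hy)
  have hmap : (Subgroup.centralizer ({x} : Set ↥(twistedE6 K 2))).map (MulAut.conj d).toMonoidHom =
      Subgroup.centralizer ({y} : Set ↥(twistedE6 K 2)) := by
    ext z
    rw [Subgroup.mem_map_equiv, Subgroup.mem_centralizer_singleton_iff,
      Subgroup.mem_centralizer_singleton_iff, ← (MulAut.conj d).injective.eq_iff, map_mul, map_mul,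
      MulEquiv.apply_symm_apply, MulAut.conj_apply, hd]
  exact ⟨(((Subgroup.centralizer ({x} : Set ↥(twistedE6 K 2))).equivMapOfInjective _ (MulAut.conj d).injective).trans
    (MulEquiv.subgroupCongr hmap)).symm.trans (MulEquiv.ofBijective ψ hbij).symm⟩

end H60.C5
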