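import Cfsg.Agent.H60.C5.Twist
import Cfsg.Agent.H60.C5.Closed
import Cfsg.Agent.H60.C5.Field
import Cfsg.Agent.H60.C5.Reduce

/-!
The centraliser of the element of order five has at most 100800 elements.
-/

set_option autoImplicit false
set_option maxRecDepth 100000

namespace H60.C5

open Cfsg.Lie H34.Tori
open scoped Matrix

/-- The positive roots orthogonal to the weight. -/
def Lpos : List ℕ := [39, 46, 47, 69, 70, 71]

/-- Those of them made negative by a word. -/
def Vk (k : Fin 24) : List ℕ := Lpos.filter fun r => decide (act (stabWord k) r < 36)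

/-- The weight of a fixed diagonal element. -/
def torP (x : ZMod 15) : Fin chevE6.rank → ZMod 15 :=
  fun i => ([3 * x, 0, x, 0, 2 * x, 6 * x] : List (ZMod 15)).getD i.val 0

/-- The parameters of a fixed element commuting with the torus element. -/
abbrev Param : Type :=
  Σ k : Fin 24, (Fin Lpos.length → Bool) × {x : ZMod 15 // 5 * x = 0} × (Fin (Vk k).length → Bool)

theorem card_param : Nat.card Param = 100800 := by
  have hx : Fintype.card {x : ZMod 15 // 5 * x = 0} = 5 := by decide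
  have hsum : (∑ k : Fin 24, 2 ^ (Vk k).length) = 315 := by decide +kernel
  rw [Nat.card_eq_fintype_card, Fintype.card_sigma]
  simp only [Fintype.card_prod, Fintype.card_fun, Fintype.card_fin, Fintype.card_bool, hx,
    show Lpos.length = 6 from rfl]
  rw [← Finset.mul_sum, ← Finset.mul_sum, hsum]
  norm_num

theorem pin_facts : (∀ r : Fin chevE6.nroots, (pin r).val ∈ List.range 72 ∧
      (r.val ∈ Lpos → pin r = r) ∧
      chevE6.neg (pin r).val = chevE6.reflectRoot 0 (H53.e6Sym.qn (chevE6.neg r.val))) := by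
  intro r
  rw [Fin.ext_iff, pin_val]
  revert r
  decide +kernel

theorem wv_zero : ∀ r < 72, 36 ≤ r → wv r = 0 → r ∈ Lpos := by decide +kernel

/-- The first half of the third block. -/
def blockHead : List (Fin chevE6.rank) :=
  ([4, 5, 2, 3, 4, 1, 3, 2] : List ℕ).map fun i => (⟨i % 6, Nat.mod_lt _ (by norm_num)⟩ : Fin 6)

/-- The reflections of one block. -/
def blk (b : ℕ) : List (Fin chevE6.rank) :=
  (blocks.getD b []).map fun i => (⟨i % 6, Nat.mod_lt _ (by norm_num)⟩ : Fin 6)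

theorem blk_big (n : ℕ) : blk (n + 3) = [] := rfl

theorem blockWord_nil : blockWord [] = [] := rfl

theorem blockWord_cons (b : ℕ) (l : List ℕ) : blockWord (b :: l) = blk b ++ blockWord l := List.map_append

theorem blk_two : blk 2 = blockHead ++ ((⟨0, by decide⟩ : Fin chevE6.rank) :: blockHead.reverse) := rfl

theorem act_vals : chevE6.simple 1 = 46 ∧ chevE6.simple 3 = 39 ∧ chevE6.simple 0 = 56 ∧
    chevE6.neg 46 = 25 ∧ chevE6.neg 39 = 32 ∧ chevE6.neg 69 = 2 ∧
    act blockHead 56 = 69 ∧ act blockHead 15 = 2 ∧ chevE6.neg 56 = 15 ∧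
    46 ∈ Lpos ∧ 39 ∈ Lpos ∧ 69 ∈ Lpos := by decide +kernel

variable {E : Type*} [Field E] [CharP E 2]

theorem eq_zero_or_one {a : E} (h : a ^ 2 = a) : a = 0 ∨ a = 1 := by
  rcases eq_or_ne a 0 with h0 | h0
  · exact Or.inl h0
  · exact Or.inr (mul_left_cancel₀ h0 (by rw [mul_one, ← pow_two, h]))

/-- Coordinates from bits. -/
noncomputable def bitsF (E : Type*) [Field E] (l : List ℕ) (b : Fin l.length → Bool) (r : ℕ) : E :=
  if h : l.idxOf r < l.length then (if b ⟨l.idxOf r, h⟩ then 1 else 0) else 0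

theorem exists_bits {a : ℕ → E} (l : List ℕ)
    (h : ∀ r, 36 ≤ r → r < 72 → (a r ^ 2 = a r) ∧ (r ∉ l → a r = 0)) :
    ∃ b : Fin l.length → Bool, H52.upProd chevE6 36 a = H52.upProd chevE6 36 (bitsF E l b) := by
  classical
  refine ⟨fun i => decide (a (l.get i) = 1), H52.Checked.upProd_congr fun r hr hr' => ?_⟩
  obtain ⟨h2, h0⟩ := h r hr hr'
  by_cases hm : r ∈ l
  · have hlt := List.idxOf_lt_length_of_mem hm
    rw [bitsF, dif_pos hlt, List.get_eq_getElem, List.getElem_idxOf]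
    rcases eq_zero_or_one h2 with e | e <;> simp [e]
  · rw [bitsF, dif_neg (fun hlt => hm (List.idxOf_lt_length_iff.1 hlt)), h0 hm]

theorem nw_append {F : Type*} [Field F] (L L' : List (Fin chevE6.rank)) :
    H54.Ctx.nw chevE6 F (L ++ L') = H54.Ctx.nw chevE6 F L * H54.Ctx.nw chevE6 F L' := by
  simp [H54.Ctx.nw]

theorem nGL_inv (r : ℕ) : (H53.nGL chevE6 r (1 : E))⁻¹ = H53.nGL chevE6 r 1 := by
  rw [← H53.nGL_neg H52.checkedE6, neg_one_eq]

theorem nw_inv (L : List (Fin chevE6.rank)) :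
    (H54.Ctx.nw chevE6 E L)⁻¹ = H54.Ctx.nw chevE6 E L.reverse := by
  induction L with
  | nil => simp [H54.Ctx.nw]
  | cons i L ih =>
    rw [List.reverse_cons, nw_append, H54.Ctx.nw_cons, mul_inv_rev, ih, H54.Ctx.nw_cons, H54.Ctx.nw_nil,
      mul_one, nGL_inv]

section Fixed

variable {s : GL chevE6.Idx E →* GL chevE6.Idx E}
  (hs : ∀ (r : Fin chevE6.nroots) (t : E), s (H52.rt chevE6 r.val t) = H52.rt chevE6 (pin r).val (t ^ 2))
include hs

theorem s_nElt {r : ℕ} (hr : r < chevE6.nroots) (t : E) :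
    s (H52.nElt chevE6 r t) = H52.nElt chevE6 (pin ⟨r, hr⟩).val (t ^ 2) := by
  have hn := H52.checkedE6.neg_lt hr
  have h1 : (pin ⟨chevE6.neg r, hn⟩).val = chevE6.neg (pin ⟨r, hr⟩).val := by
    rw [(pin_facts ⟨r, hr⟩).2.2, pin_val, H53.BasisSym.qn, dif_pos hn]
  rw [H52.Checked.nElt_eq, H52.Checked.nElt_eq, map_mul, map_mul, hs ⟨r, hr⟩, hs ⟨_, hn⟩, h1]
  congr 3
  rw [CharTwo.neg_eq, CharTwo.neg_eq, inv_pow]

theorem s_diag {h : GL chevE6.Idx E} (hh : h ∈ chevE6.diagonalSubgroup E) :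
    s h ∈ chevE6.diagonalSubgroup E := by
  have hC := H52.checkedE6
  induction hh using Subgroup.closure_induction with
  | mem g hg =>
    obtain ⟨r, t, hr, ht, hg⟩ := hg
    obtain rfl : g = H52.hElt chevE6 r t := Units.ext (by rw [hg, hC.coe_hElt])
    rw [H52.Checked.hElt_eq, map_mul, s_nElt hs hr, s_nElt hs hr,
      show ((-1 : E)) ^ 2 = -1 by rw [neg_one_eq, one_pow], ← H52.Checked.hElt_eq]
    exact Subgroup.subset_closure ⟨(pin ⟨r, hr⟩).val, t ^ 2, (pin ⟨r, hr⟩).isLt, pow_ne_zero 2 ht,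
      hC.coe_hElt _ _⟩
  | one => rw [map_one]; exact one_mem _
  | mul a b _ _ ha hb => rw [map_mul]; exact mul_mem ha hb
  | inv a _ ha => rw [map_inv]; exact inv_mem ha

theorem s_upProd {a : ℕ → E} : ∀ n k : ℕ, chevE6.nroots ≤ k + n →
    (∀ r : Fin chevE6.nroots, k ≤ r.val → a r.val = 0 ∨ pin r = r) →
    s (H52.upProd chevE6 k a) = H52.upProd chevE6 k fun r => a r ^ 2 := by
  intro n
  induction n with
  | zero =>
    intro k hk _
    simp [H52.upProd, H52.wordRt, show chevE6.nroots - k = 0 by omega]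
  | succ n ih =>
    intro k hk h
    by_cases hlt : k < chevE6.nroots
    · rw [H52.Checked.upProd_step hlt a, H52.Checked.upProd_step hlt (fun r => a r ^ 2), map_mul,
        ih (k + 1) (by omega) (fun r hr => h r (by omega)), hs ⟨k, hlt⟩]
      rcases h ⟨k, hlt⟩ le_rfl with e | e
      · simp only at e
        rw [e, zero_pow two_ne_zero, H52.checkedE6.rt_zero, H52.checkedE6.rt_zero]
      · rw [e]
    · simp [H52.upProd, H52.wordRt, show chevE6.nroots - k = 0 by omega]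

theorem s_nGL_fixed {r : ℕ} (hm : r ∈ Lpos) : s (H53.nGL chevE6 r (1 : E)) = H53.nGL chevE6 r 1 := by
  have hr : r < chevE6.nroots := by
    revert hm
    have : ∀ r ∈ Lpos, r < 72 := by decide
    exact this r
  have e : H53.nGL chevE6 r (1 : E) = H52.nElt chevE6 r 1 := by rw [H53.nGL, H52.Checked.nElt_eq]
  rw [e, s_nElt hs hr, one_pow, (pin_facts ⟨r, hr⟩).2.1 hm]

theorem s_nw_block : ∀ l : List ℕ, s (H54.Ctx.nw chevE6 E (blockWord l)) = H54.Ctx.nw chevE6 E (blockWord l) := by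
  obtain ⟨p1, p3, p0, -, -, n69, a56, a15, n56, m46, m39, m69⟩ := act_vals
  have hblock : ∀ b : ℕ, s (H54.Ctx.nw chevE6 E (blk b)) = H54.Ctx.nw chevE6 E (blk b) := by
    intro b
    match b with
    | 0 =>
      show s (H53.nGL chevE6 (chevE6.simple 1) (1 : E) * 1) = _
      rw [mul_one, p1, s_nGL_fixed hs m46]
      show _ = H53.nGL chevE6 (chevE6.simple 1) (1 : E) * 1
      rw [mul_one, p1]
    | 1 =>
      show s (H53.nGL chevE6 (chevE6.simple 3) (1 : E) * 1) = _
      rw [mul_one, p3, s_nGL_fixed hs m39]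
      show _ = H53.nGL chevE6 (chevE6.simple 3) (1 : E) * 1
      rw [mul_one, p3]
    | 2 =>
      rw [blk_two, nw_append, H54.Ctx.nw_cons, ← nw_inv]
      set A := H54.Ctx.nw chevE6 E blockHead
      have hconj : ∀ r : Fin chevE6.nroots, ∀ t : E, A * H52.rt chevE6 r.val t * A⁻¹ =
          H52.rt chevE6 (act blockHead r.val) t := by
        intro r t
        obtain ⟨ε, hε, h⟩ := ctx.nw_conj_rt (F := E) blockHead r t
        rw [h, wperm_act, sign_cast hε, one_mul]
      have e : A * (H53.nGL chevE6 (chevE6.simple (⟨0, by decide⟩ : Fin chevE6.rank).val) 1 * A⁻¹) =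
          H53.nGL chevE6 69 1 := by
        show A * (H53.nGL chevE6 (chevE6.simple 0) 1 * A⁻¹) = _
        rw [p0, H53.nGL, H53.nGL, n56, n69]
        calc A * (H52.rt chevE6 56 (1 : E) * H52.rt chevE6 15 (-(1 : E)⁻¹) * H52.rt chevE6 56 1 * A⁻¹) =
            A * H52.rt chevE6 56 (1 : E) * A⁻¹ * (A * H52.rt chevE6 15 (-(1 : E)⁻¹) * A⁻¹) *
              (A * H52.rt chevE6 56 1 * A⁻¹) := by group
          _ = _ := by rw [hconj ⟨56, by decide⟩, hconj ⟨15, by decide⟩, a56, a15]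
      rw [e, s_nGL_fixed hs m69]
    | n + 3 => rw [blk_big, H54.Ctx.nw_nil, map_one]
  intro l
  induction l with
  | nil => rw [blockWord_nil, H54.Ctx.nw_nil, map_one]
  | cons b l ih =>
    rw [blockWord_cons, nw_append, map_mul, hblock, ih]

end Fixed

theorem rval_pin (a : Fin chevE6.rank → ZMod 15) :
    rval ctx a (pin (simpleF ctx ⟨0, by decide⟩)) = a ⟨5, by decide⟩ ∧
    rval ctx a (pin (simpleF ctx ⟨1, by decide⟩)) = a ⟨1, by decide⟩ ∧
    rval ctx a (pin (simpleF ctx ⟨2, by decide⟩)) = a ⟨4, by decide⟩ ∧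
    rval ctx a (pin (simpleF ctx ⟨3, by decide⟩)) = a ⟨3, by decide⟩ ∧
    rval ctx a (pin (simpleF ctx ⟨4, by decide⟩)) = a ⟨0, by decide⟩ + a ⟨2, by decide⟩ ∧
    rval ctx a (pin (simpleF ctx ⟨5, by decide⟩)) = -a ⟨0, by decide⟩ := by
  have rows : ∀ k j : Fin 6, H52.tablesE6.co (chevE6.reflectRoot 0 (H53.e6Sym.qn (chevE6.simple k.val))) j.val =
      (([[0, 0, 0, 0, 0, 1], [0, 1, 0, 0, 0, 0], [0, 0, 0, 0, 1, 0], [0, 0, 0, 1, 0, 0],
        [1, 0, 1, 0, 0, 0], [-1, 0, 0, 0, 0, 0]] : List (List ℤ)).getD k.val []).getD j.val 0 := by decide +kernel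
  have key : ∀ k : Fin chevE6.rank, rval ctx a (pin (simpleF ctx k)) =
      ∑ j : Fin 6, a j * ((([[0, 0, 0, 0, 0, 1], [0, 1, 0, 0, 0, 0], [0, 0, 0, 0, 1, 0], [0, 0, 0, 1, 0, 0],
        [1, 0, 1, 0, 0, 0], [-1, 0, 0, 0, 0, 0]] : List (List ℤ)).getD k.val []).getD j.val 0 : ℤ) := by
    intro k
    rw [rval]
    refine Finset.sum_congr rfl fun j _ => ?_
    have hlt : chevE6.simple k.val < chevE6.nroots := (simpleF ctx k).isLt
    rw [← rows k j, H53.BasisSym.qn, dif_pos hlt]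
    show a j * ((H52.tablesE6.co (pin (simpleF ctx k)).val j.val : ℤ) : ZMod 15) = _
    rw [pin_val]
    rfl
  refine ⟨?_, ?_, ?_, ?_, ?_, ?_⟩ <;> rw [key] <;> simp [Fin.sum_univ_six] <;> rfl

theorem torus_fixed {a : Fin chevE6.rank → ZMod 15} (hT : InT a)
    (h : ∀ r, rval ctx a (pin r) = 2 * rval ctx a r) :
    ∃ x : {x : ZMod 15 // 5 * x = 0}, a = torP x.1 := by
  obtain ⟨e0, e1, e2, e3, e4, e5⟩ := rval_pin a
  rw [h, rval_simple] at e0 e1 e2 e3 e4 e5
  obtain ⟨g, hg⟩ := hT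
  have hdot : (5 : ZMod 15) * (a ⬝ᵥ fun i => (([1, 0, 2, 0, 1, 2] : List ℕ).getD i.val 0 : ZMod 15)) = 0 := by
    rw [← hg, ← Matrix.dotProduct_mulVec, dotProduct, Finset.mul_sum]
    refine Finset.sum_eq_zero fun j _ => ?_
    have h2 : (5 : ZMod 15) * (H34.Tori.toZ 15 (cmat chevE6) *ᵥ
        fun i => (([1, 0, 2, 0, 1, 2] : List ℕ).getD i.val 0 : ZMod 15)) j = 0 := congrFun cartan_cls j
    rw [mul_left_comm, h2, mul_zero]
  have hsum : a ⬝ᵥ (fun i => (([1, 0, 2, 0, 1, 2] : List ℕ).getD i.val 0 : ZMod 15)) =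
      a ⟨0, by decide⟩ + 2 * a ⟨2, by decide⟩ + a ⟨4, by decide⟩ + 2 * a ⟨5, by decide⟩ := by
    show ∑ i : Fin 6, _ = _
    simp [Fin.sum_univ_six]
    ring_nf
    rfl
  rw [hsum] at hdot
  generalize h0 : a ⟨0, by decide⟩ = a0 at *
  generalize h1 : a ⟨1, by decide⟩ = a1 at *
  generalize h2 : a ⟨2, by decide⟩ = a2 at *
  generalize h3 : a ⟨3, by decide⟩ = a3 at *
  generalize h4 : a ⟨4, by decide⟩ = a4 at *
  generalize h5 : a ⟨5, by decide⟩ = a5 at *
  have h15 : (15 : ZMod 15) = 0 := by decide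
  have r0 : a0 = 3 * a2 := by linear_combination -e4 - 2 * e2
  refine ⟨⟨a2, ?_⟩, ?_⟩
  · linear_combination hdot + 10 * e0 + 5 * e2 - 25 * r0 - 6 * a2 * h15
  · funext i
    fin_cases i
    · exact h0.trans r0
    · exact h1.trans (by show a1 = 0; linear_combination e1)
    · exact h2
    · exact h3.trans (by show a3 = 0; linear_combination e3)
    · exact h4.trans (by show a4 = 2 * a2; linear_combination -e2)
    · exact h5.trans (by show a5 = 6 * a2; linear_combination -e0 + 2 * r0)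

/-- The element of a parameter. -/
noncomputable def build (e : Multiplicative (ZMod 15) ≃* Eˣ) (p : Param) : GL chevE6.Idx E :=
  H52.upProd chevE6 36 (bitsF E Lpos p.2.1) * tor ctx e (torP p.2.2.1.1) *
    H54.Ctx.nw chevE6 E (stabWord p.1) * H52.upProd chevE6 36 (bitsF E (Vk p.1) p.2.2.2)

theorem exists_param (e : Multiplicative (ZMod 15) ≃* Eˣ) {s : GL chevE6.Idx E →* GL chevE6.Idx E}
    (hs : ∀ (r : Fin chevE6.nroots) (t : E), s (H52.rt chevE6 r.val t) = H52.rt chevE6 (pin r).val (t ^ 2))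
    {z : GL chevE6.Idx E} (hz : z ∈ chevE6.group E) (hzt : z * tor ctx e wgt = tor ctx e wgt * z)
    (hzs : s z = z) : ∃ p : Param, build e p = z := by
  have hC := ctx.hC
  have hT : InT wgt := ⟨gexp, gexp_wgt⟩
  obtain ⟨u, hu, h, hh, L, v, hv, rfl⟩ := ctx.exists_nf hz
  set t := tor ctx e wgt with htdef
  have htd : t ∈ chevE6.diagonalSubgroup E := tor_mem ctx e hT
  set nL := H54.Ctx.nw chevE6 E L with hnL
  have hv' : t⁻¹ * v * t ∈ H54.Ctx.uinv chevE6 E (ctx.wperm L) := by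
    have hneg : t⁻¹ = tor ctx e (-wgt) := by
      rw [htdef, inv_eq_iff_mul_eq_one, ← tor_add, add_neg_cancel, tor_zero]
    have := tor_conj_uinv ctx e (-wgt) hv
    rwa [← hneg, inv_inv] at this
  set f'' := Matrix.vecMul wgt (H34.Tori.toZ 15 (lmat ctx (ctx.wperm L)⁻¹)) with hf''def
  have hn : nL * t * nL⁻¹ = tor ctx e f'' := nw_conj_tor ctx e L hT
  have heq : u * (h * tor ctx e f'') * nL * (t⁻¹ * v * t) = (t * u * t⁻¹) * (t * h) * nL * v := by
    rw [← hn]
    calc _ = u * h * nL * v * t := by group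
      _ = t * (u * h * nL * v) := hzt
      _ = _ := by group
  have hf'' : tor ctx e f'' ∈ chevE6.diagonalSubgroup E := by
    rw [← hn]; exact nw_conj_mem ctx e L hT
  obtain ⟨hu1, ht1, hv1⟩ := (ctx.nf_unique hu (hC.diag_conj_pos htd hu) (mul_mem hh hf'') (mul_mem htd hh)
    hv' hv heq).2 rfl
  have hv2 : t * v * t⁻¹ = v := by
    calc t * v * t⁻¹ = t * (t⁻¹ * v * t) * t⁻¹ := by rw [hv1]
      _ = v := by group
  have hfix : ∀ r, rval ctx wgt (ctx.wperm L r) = rval ctx wgt r := by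
    obtain ⟨b, -, hb⟩ := exists_tor ctx e hh
    rw [← hb, htdef, ← tor_add, ← tor_add, add_comm wgt] at ht1
    have hff : f'' = wgt := add_left_cancel (tor_injective ctx e ht1)
    intro r
    conv_lhs => rw [← hff, hf''def, rval_vecMul ctx (inv_mem (wperm_mem_wgrp ctx L))]
    exact congrArg _ (Equiv.symm_apply_apply (ctx.wperm L) r)
  obtain ⟨k, hk⟩ := exists_stabWord L hfix
  -- change of representative
  set nk := H54.Ctx.nw chevE6 E (stabWord k) with hnk
  have hd : nL * nk⁻¹ ∈ chevE6.diagonalSubgroup E := by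
    rw [hnL, hnk, nw_inv, ← nw_append]
    refine ctx.nw_mem_diag ?_
    rw [ctx.wperm_append, ctx.wperm_reverse, hk, mul_inv_cancel]
  have hdec : u * h * nL * v = u * (h * (nL * nk⁻¹)) * nk * v := by group
  have hh' : h * (nL * nk⁻¹) ∈ chevE6.diagonalSubgroup E := mul_mem hh hd
  rw [hdec] at hzs ⊢
  generalize h * (nL * nk⁻¹) = d at hzs hh' ⊢
  rw [← hk] at hv
  have h36 : chevE6.nroots / 2 = 36 := rfl
  have hwv : ∀ (r : ℕ) (hr : r < chevE6.nroots), wv r = 0 ↔ rval ctx wgt ⟨r, hr⟩ = 0 := fun r hr => by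
    rw [← wv_spec ⟨r, hr⟩]
    have hlt : wv r < 15 := by simpa using List.all_eq_true.1 wv_ok r (List.mem_range.2 hr)
    constructor
    · intro e0; simp [e0]
    · intro e0
      have := congrArg ZMod.val e0
      rwa [ZMod.val_natCast, Nat.mod_eq_of_lt hlt, ZMod.val_zero] at this
  obtain ⟨au, hau⟩ : ∃ a, u = H52.upProd chevE6 36 a := by
    rw [hC.posUnipotent_eq, h36] at hu
    exact hC.exists_upProd (le_of_eq h36) hu
  obtain ⟨av, hav, havP⟩ := uinv_upProd ctx hv
  rw [h36] at hav havP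
  have hu0 : ∀ r, 36 ≤ r → r < 72 → r ∉ Lpos → au r = 0 := fun r hr hr' hm => by
    refine coord_zero ctx e (f := wgt) (a := au) ?_ hr hr' fun e0 => hm (wv_zero r hr' hr ((hwv r hr').2 e0))
    rw [h36, ← hau]; exact hu1.symm
  have hv0 : ∀ r, 36 ≤ r → r < 72 → r ∉ Vk k → av r = 0 := fun r hr hr' hm => by
    by_cases hinv : invP ctx (stabWord k) r
    · refine coord_zero ctx e (f := wgt) (a := av) ?_ hr hr' fun e0 => hm ?_
      · rw [h36, ← hav]; exact hv2
      · obtain ⟨hlt, -, hneg⟩ := hinv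
        rw [wperm_act, h36] at hneg
        exact List.mem_filter.2 ⟨wv_zero r hr' hr ((hwv r hr').2 e0), decide_eq_true hneg⟩
    · exact havP r hr hr' hinv
  have hsu : s u = H52.upProd chevE6 36 fun r => au r ^ 2 := by
    rw [hau]
    refine s_upProd hs chevE6.nroots 36 (by omega) fun r hr => ?_
    by_cases hm : r.val ∈ Lpos
    · exact Or.inr ((pin_facts r).2.1 hm)
    · exact Or.inl (hu0 r.val hr r.isLt hm)
  have hsv : s v = H52.upProd chevE6 36 fun r => av r ^ 2 := by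
    rw [hav]
    refine s_upProd hs chevE6.nroots 36 (by omega) fun r hr => ?_
    by_cases hm : r.val ∈ Vk k
    · exact Or.inr ((pin_facts r).2.1 (List.mem_filter.1 hm).1)
    · exact Or.inl (hv0 r.val hr r.isLt hm)
  have hsuU : s u ∈ chevE6.posUnipotent E := by
    rw [hC.posUnipotent_eq, hsu]; exact H52.Checked.upProd_mem _ _
  have hsvI : s v ∈ H54.Ctx.uinv chevE6 E (ctx.wperm (stabWord k)) := by
    rw [hsv, H52.upProd]
    refine H52.Checked.wordRt_mem _ _ fun p hp => ?_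
    obtain ⟨r, hr, rfl⟩ := List.mem_map.1 hp
    rw [List.mem_range'_1] at hr
    have hr' : r < chevE6.nroots := by have : chevE6.nroots = 72 := rfl; omega
    by_cases hm : r ∈ Vk k
    · refine Subgroup.subset_closure ⟨⟨r, hr'⟩, _, hr.1, ?_, rfl⟩
      rw [wperm_act]
      exact of_decide_eq_true (List.mem_filter.1 hm).2
    · rw [hv0 r hr.1 hr' hm, zero_pow two_ne_zero, hC.rt_zero]; exact one_mem _
  have hsn : s nk = nk := s_nw_block hs _
  rw [map_mul, map_mul, map_mul, hsn] at hzs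
  obtain ⟨hu3, hd3, hv3⟩ := (ctx.nf_unique hsuU hu (s_diag hs hh') hh' hsvI hv hzs).2 rfl
  obtain ⟨a, haT, rfl⟩ := exists_tor ctx e hh'
  have hrel : ∀ r, rval ctx a (pin r) = 2 * rval ctx a r := by
    intro r
    have h1 := congrArg s (tor_conj_rt ctx e a r (1 : E))
    rw [map_mul, map_mul, map_inv, hd3, hs, hs, one_pow, tor_conj_rt ctx e, mul_one, mul_one] at h1
    have h2 := hC.rt_injective (pin r).isLt h1
    refine uval_injective e (Units.ext ?_)
    rw [show (2 : ZMod 15) = ((2 : ℕ) : ZMod 15) from rfl, uval_natCast_mul, Units.val_pow_eq_pow_val]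
    exact h2
  obtain ⟨x, rfl⟩ := torus_fixed haT hrel
  have hu4 : ∀ r, 36 ≤ r → r < 72 → au r ^ 2 = au r := by
    rw [hsu, hau] at hu3; exact hC.upProd_injective (le_of_eq h36) hu3
  have hv4 : ∀ r, 36 ≤ r → r < 72 → av r ^ 2 = av r := by
    rw [hsv, hav] at hv3; exact hC.upProd_injective (le_of_eq h36) hv3
  obtain ⟨bu, hbu⟩ := exists_bits (a := au) Lpos fun r hr hr' => ⟨hu4 r hr hr', hu0 r hr hr'⟩
  obtain ⟨bv, hbv⟩ := exists_bits (a := av) (Vk k) fun r hr hr' => ⟨hv4 r hr hr', hv0 r hr hr'⟩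
  exact ⟨⟨k, bu, x, bv⟩, by rw [build, ← hbu, ← hbv, ← hau, ← hav]⟩

theorem xG_image {K : Type*} [Field K] (ι : K →+* E) (w : K) :
    H54.glF chevE6 ι (TE6.el w (lw xw)) =
      H52.rt chevE6 15 1 * H52.rt chevE6 35 1 * (H52.rt chevE6 56 (ι w) * H52.rt chevE6 36 (1 + ι w)) := by
  have h : lw xw = [(6, 1), (7, 1), (4, 2), (5, 3)] := by decide +kernel
  obtain ⟨r6, r7, r4, r5⟩ : TE6.rootAt 6 = 15 ∧ TE6.rootAt 7 = 35 ∧ TE6.rootAt 4 = 56 ∧ TE6.rootAt 5 = 36 := by
    decide +kernel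
  rw [h, TE6.el, TE6.kw]
  simp only [H52.wordRt, List.map_cons, List.map_nil, List.prod_cons, List.prod_nil, mul_one, map_mul,
    ctx.glF_rt, r4, r5, r6, r7, (TE6.val_vals w).2.1, (TE6.val_vals w).2.2.1, (TE6.val_vals w).2.2.2,
    map_one, map_add, mul_assoc]

theorem card_centralizer_le {K : Type*} [Field K] [Fintype K] [CharP K 2] (hK : Fintype.card K = 4) {w : K}
    (hw : w * w = w + 1) :
    Nat.card ↥(Subgroup.centralizer ({xG hw} : Set ↥(twistedE6 K 2))) ≤ 100800 := by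
  obtain ⟨E, _, _, _, ι, e, z, hz, he⟩ := exists_ext16 hK hw
  obtain ⟨y, s, hy, hxy, hfix, hs⟩ := exists_twist hK ι hw e hz he
  rw [← xG_image ι w] at hxy
  have hG : twistedE6 K 2 ≤ chevE6.group K := by
    refine (Subgroup.closure_le _).2 ?_
    rintro g ⟨word, -, hgw⟩
    obtain rfl : g = H52.wordRt chevE6 word := Units.ext (by rw [hgw, ctx.hC.coe_wordRt])
    exact H52.Checked.wordRt_mem _ _ fun p _ => ctx.rt_mem_group _ _
  let zmap : ↥(Subgroup.centralizer ({xG hw} : Set ↥(twistedE6 K 2))) → GL chevE6.Idx E :=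
    fun c => y⁻¹ * H54.glF chevE6 ι ((c : ↥(twistedE6 K 2)) : GL chevE6.Idx K) * y
  have hex : ∀ c, ∃ p : Param, build e p = zmap c := by
    intro c
    have hgE : H54.glF chevE6 ι ((c : ↥(twistedE6 K 2)) : GL chevE6.Idx K) ∈ chevE6.group E :=
      ctx.glF_group_le ι ⟨_, hG c.1.2, rfl⟩
    refine exists_param e hs (mul_mem (mul_mem (inv_mem hy) hgE) hy) ?_ (hfix _ c.1.2)
    have hc := congrArg (fun g : ↥(twistedE6 K 2) => H54.glF chevE6 ι (g : GL chevE6.Idx K))
      (Subgroup.mem_centralizer_singleton_iff.1 c.2)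
    simp only [Subgroup.coe_mul, map_mul] at hc
    set g := H54.glF chevE6 ι ((c : ↥(twistedE6 K 2)) : GL chevE6.Idx K)
    set X := H54.glF chevE6 ι (TE6.el w (lw xw))
    have ht : tor ctx e wgt = y⁻¹ * (X * y) := by rw [hxy, inv_mul_cancel_left]
    show y⁻¹ * g * y * tor ctx e wgt = tor ctx e wgt * (y⁻¹ * g * y)
    rw [ht]
    calc y⁻¹ * g * y * (y⁻¹ * (X * y)) = y⁻¹ * (g * X) * y := by group
      _ = y⁻¹ * (X * g) * y := by rw [show g * X = X * g from hc]
      _ = y⁻¹ * (X * y) * (y⁻¹ * g * y) := by group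
  choose p hp using hex
  calc Nat.card ↥(Subgroup.centralizer ({xG hw} : Set ↥(twistedE6 K 2))) ≤ Nat.card Param := by
        refine Nat.card_le_card_of_injective p fun c c' h => ?_
        have h2 : zmap c = zmap c' := by rw [← hp, ← hp, h]
        have h3 := mul_left_cancel (mul_right_cancel h2)
        exact Subtype.ext (Subtype.ext (H54.glF_injective ι h3))
    _ = 100800 := card_param

end H60.C5
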