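/-!
Words for the elements of order five of ²E₆(2): a copy of `5 × A₈`, a Sylow 5-subgroup with its
fusing elements.
-/

set_option autoImplicit false
set_option maxRecDepth 100000

namespace H60.C5

/-- The letters of the element of order five. -/
def xw : List Nat :=
  [5, 8]

/-- The letters of six Carmichael generators of an alternating group of degree eight. -/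
def aws : List (List Nat) :=
  [[0, 1, 6, 7, 6, 4, 5, 4, 2, 3, 2, 6, 7, 6, 2, 3, 2, 0, 2, 3, 2, 6, 7, 6, 2, 3, 2, 4, 5, 4, 6, 7, 6, 6, 7, 6, 4, 5, 4, 2, 3, 2, 6, 7, 6, 2, 3, 2, 1, 2, 3, 2, 6, 7, 6, 2, 3, 2, 4, 5, 4, 6, 7, 6], [0, 6, 7, 6, 4, 5, 4, 2, 3, 2, 6, 7, 6, 2, 3, 2, 0, 2, 3, 2, 6, 7, 6, 2, 3, 2, 4, 5, 4, 6, 7, 6, 2, 0, 6, 7, 6, 4, 5, 4, 2, 3, 2, 6, 7, 6, 2, 3, 2, 0, 2, 3, 2, 6, 7, 6, 2, 3, 2, 4, 5, 4, 6, 7, 6, 2], [0, 3, 1, 0, 6, 7, 6, 4, 5, 4, 2, 3, 2, 6, 7, 6, 2, 3, 2, 1, 2, 3, 2, 6, 7, 6, 2, 3, 2, 4, 5, 4, 6, 7, 6, 3], [0, 6, 7, 6, 4, 5, 4, 2, 3, 2, 6, 7, 6, 2, 3, 2, 0, 2, 3, 2, 6, 7, 6, 2, 3, 2, 4, 5, 4, 6, 7, 6], [0, 1, 0, 6, 7, 6, 4, 5, 4, 2, 3, 2, 6, 7, 6, 2, 3, 2, 1, 2, 3, 2, 6, 7, 6, 2, 3,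 2, 4, 5, 4, 6, 7, 6], [0, 2, 0, 6, 7, 6, 4, 5, 4, 2, 3, 2, 6, 7, 6, 2, 3, 2, 0, 2, 3, 2, 6, 7, 6, 2, 3, 2, 4, 5, 4, 6, 7, 6, 2, 0]]

/-- The first generator of a Sylow 5-subgroup. -/
def sa : List Nat :=
  [0, 1, 2, 3]

/-- The second generator of a Sylow 5-subgroup. -/
def sb : List Nat :=
  [7, 8, 3, 7, 2, 3, 1, 2, 0, 1, 0, 1, 0, 2, 1, 3, 2, 7, 3, 8, 7, 4, 3, 7, 2, 3, 4, 1, 2, 3, 7, 5, 4, 3, 2, 1, 0, 1, 2, 3, 4, 5, 7, 3, 2, 1, 4, 3, 2, 7, 3, 4, 4, 5, 3, 4, 2, 3, 1, 2, 0, 1, 0, 1, 0, 2, 1, 3, 2, 4, 3, 5, 4, 6, 4, 5, 3, 4, 2, 3, 1, 2, 0, 1, 0, 1, 0, 2, 1, 3, 2, 4, 3, 5, 4, 6]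

/-- An element carrying the first generator to the product. -/
def sg : List Nat :=
  [7, 8, 4, 3, 7, 5, 6, 4, 5, 2, 3, 4, 1, 2, 3, 7, 8, 4, 5, 3, 4, 1, 2, 3, 7, 6, 5, 4, 3, 2, 1, 0, 1, 2, 3, 4, 5, 6, 7, 3, 2, 1, 4, 3, 5, 4, 8, 7, 3, 2, 1, 4, 3, 2, 5, 4, 6, 5, 7, 3, 4, 8, 7, 4, 1, 2, 3, 7, 8, 7, 3, 4, 2, 3, 7, 6, 5, 4, 3, 2, 0, 1, 0, 1, 0, 2, 3, 4, 5, 6, 7, 3, 2, 4, 3, 7, 8, 7, 3, 2, 1, 4, 4, 3, 7, 5, 2, 3, 4, 1, 2, 3, 7, 8, 3, 4, 5, 2, 3, 4, 1, 2, 3, 7, 6, 5, 4, 3, 2, 1, 0, 1, 2, 3, 4, 5, 6, 7, 3, 2, 1, 4, 3, 2, 5, 4, 3, 8, 7, 3, 2, 1, 4, 3, 2, 5, 7, 3, 4, 8, 3, 7, 4, 5, 2, 3, 4, 0, 1, 2, 3, 7, 8, 4, 5, 3, 4, 1, 2, 3, 7, 6, 5, 4, 3, 2, 1, 0, 1, 2, 3, 4, 5, 6, 7, 3, 2, 1, 4, 3, 5, 4, 8, 7, 3, 2, 1, 0, 4,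 3, 2, 5, 4, 7, 3, 8, 4, 2, 3, 7, 8, 2, 3, 7, 4, 5, 2, 3, 4, 1, 2, 3, 7, 4, 5, 6, 2, 3, 4, 5, 1, 2, 3, 4, 0, 1, 2, 3, 7]

/-- An element carrying the first generator to the second. -/
def sk : List Nat :=
  [6, 5, 4, 3, 7, 8, 1, 2, 3, 7, 4, 3, 2, 1, 0, 1, 2, 3, 4, 7, 3, 2, 1, 8, 7, 3, 4, 5, 6, 4, 3, 7, 8, 2, 3, 7, 4, 3, 2, 1, 0, 1, 2, 3, 4, 7, 3, 2, 8, 7, 3, 4, 5, 4, 3, 7, 8, 2, 3, 7, 4, 3, 2, 0, 1, 0, 1, 0, 2, 3, 4, 7, 3, 2, 8, 7, 3, 4, 5, 7, 8, 3, 7]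

/-- An element squaring the first generator. -/
def sh : List Nat :=
  [2, 0, 1]

/-- An element squaring the second generator. -/
def sl : List Nat :=
  [4, 5, 3, 4, 2, 3, 1, 2, 0, 1, 0, 1, 0, 2, 1, 3, 2, 4, 3, 5, 4, 7, 8, 3, 7, 2, 3, 1, 2, 0, 1, 0, 1, 0, 2, 1, 3, 2, 7, 3, 8, 7, 4, 3, 7, 2, 3, 4, 1, 2, 3, 7, 5, 4, 3, 2, 1, 0, 1, 2, 3, 4, 5, 7, 3, 2, 1, 4, 3, 2, 7, 3, 4]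

end H60.C5
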