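import Cfsg.Agent.H60.TE6.Rep
import Cfsg.Agent.H60.C5.Data

/-!
Kernel certificate for the elements of order five of ²E₆(2).
-/

set_option autoImplicit false
set_option maxRecDepth 100000

namespace H60.C5

open Cfsg.Lie H52 H60.TE6

attribute [local irreducible] step idY delta scale

/-- The root elements of a word in letters. -/
def lw (l : List ℕ) : List (ℕ × ℕ) := l.flatMap fun k => letters.getD k []

/-- The letters of one of the six generators. -/
def aw (i : ℕ) : List ℕ := aws.getD i []

/-- Agreement of two packed matrices at all places. -/
def sameB (X Y : ℕ) : Bool :=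
  (List.range 78).all fun i => (List.range 78).all fun j => Nat.beq (ent X i j) (ent Y i j)

/-- A word in letters with value one. -/
def oneB (l : List ℕ) : Bool := Nat.beq (evL (lw l) idY) idY

/-- Two words in generators with one value. -/
def eqG (l l' : List ℕ) : Bool := Nat.beq (evG l idY) (evG l' idY)

/-- Two words in generators with different values. -/
def neG (l l' : List ℕ) : Bool := !sameB (evG l idY) (evG l' idY)

theorem x_five : oneB (wrep xw 5) = true := by decide +kernel

theorem x_ne : (!sameB (evL (lw xw) idY) idY) = true := by decide +kernel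

theorem a_cube : oneB (wrep (aw 0) 3) = true := by decide +kernel

theorem a_ne : (!sameB (evL (lw (aw 0)) idY) idY) = true := by decide +kernel

theorem a_sq : ((List.range 5).all fun i => oneB (wrep (aw (i + 1)) 2)) = true := by decide +kernel

theorem a_braid : ((List.range 5).all fun i => oneB (wrep (aw i ++ aw (i + 1)) 3)) = true := by
  decide +kernel

theorem a_far : ((List.range 6).all fun i => (List.range 6).all fun j =>
    decide (j ≤ i + 1) || oneB (wrep (aw i ++ aw j) 2)) = true := by decide +kernel

theorem a_comm : ((List.range 6).all fun i =>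
    Nat.beq (evL (lw (xw ++ aw i)) idY) (evL (lw (aw i ++ xw)) idY)) = true := by decide +kernel

theorem sa_five : eqG (wrep sa 5) [] = true := by decide +kernel

theorem sb_five : eqG (wrep sb 5) [] = true := by decide +kernel

theorem sab : eqG (sa ++ sb) (sb ++ sa) = true := by decide +kernel

theorem sb_ne : ((List.range 5).all fun k => neG (wrep sa k) sb) = true := by decide +kernel

theorem sa_ne : neG sa [] = true := by decide +kernel

theorem sga : eqG (sg ++ sa) (sa ++ (sb ++ sg)) = true := by decide +kernel

theorem ska : eqG (sk ++ sa) (sb ++ sk) = true := by decide +kernel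

theorem sha : eqG (sh ++ sa) (sa ++ (sa ++ sh)) = true := by decide +kernel

theorem shb : eqG (sh ++ sb) (sb ++ sh) = true := by decide +kernel

theorem slb : eqG (sl ++ sb) (sb ++ (sb ++ sl)) = true := by decide +kernel

theorem sla : eqG (sl ++ sa) (sa ++ sl) = true := by decide +kernel

theorem letters_lt : (∀ k ∈ xw, k < 16) ∧ ∀ i, ∀ k ∈ aw i, k < 16 := by
  refine ⟨by decide, fun i => ?_⟩
  by_cases h : i < 6
  · revert i; decide +kernel
  · intro k hk
    rw [aw, List.getD_eq_default _ _ (by simpa [aws] using h)] at hk
    exact absurd hk List.not_mem_nil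

theorem gens_lt : ∀ l ∈ [sa, sb, sg, sk, sh, sl], ∀ g ∈ l, g < 9 := by decide +kernel

end H60.C5
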