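import Cfsg.Agent.H60.C5.Bound

/-!
The elements of order five of ²E₆(2).
-/

set_option autoImplicit false

namespace H60.C5

open Cfsg.Lie

/-- A primitive cube root of unity in the field with four elements. -/
theorem exists_cube_root {K : Type*} [Field K] [Fintype K] (hK : Fintype.card K = 4) :
    ∃ _ : CharP K 2, ∃ w : K, w * w = w + 1 := by
  have hc : CharP K 2 := by
    have : Fact (Nat.Prime 2) := ⟨Nat.prime_two⟩
    exact charP_of_card_eq_prime_pow (f := 2) (by rw [hK]; rfl)
  refine ⟨hc, ?_⟩
  classical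
  obtain ⟨w, -, hw⟩ := Finset.exists_mem_notMem_of_card_lt_card
    (s := ({0, 1} : Finset K)) (t := Finset.univ) (by
      rw [Finset.card_univ, hK]
      exact lt_of_le_of_lt Finset.card_le_two (by norm_num))
  simp only [Finset.mem_insert, Finset.mem_singleton, not_or] at hw
  obtain ⟨h0, h1⟩ := hw
  refine ⟨w, ?_⟩
  have h3 : w ^ 3 = 1 := by
    have := FiniteField.pow_card_sub_one_eq_one w h0
    rwa [hK] at this
  have h4 : (w - 1) * (w * w + w + 1) = 0 := by linear_combination h3
  have h5 := (mul_eq_zero.1 h4).resolve_left (sub_ne_zero.2 h1)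
  have h2 : (2 : K) = 0 := CharTwo.two_eq_zero
  linear_combination h5 - (w + 1) * h2

theorem order_five {K : Type*} [Field K] [Fintype K] (hK : Fintype.card K = 4) :
    (∀ x y : ↥(twistedE6 K 2), orderOf x = 5 → orderOf y = 5 → IsConj x y) ∧
      ∀ x : ↥(twistedE6 K 2), orderOf x = 5 →
        Nonempty (↥(Subgroup.centralizer ({x} : Set ↥(twistedE6 K 2))) ≃*
          (Multiplicative (ZMod 5) × ↥(alternatingGroup (Fin 8)))) := by
  obtain ⟨_, w, hw⟩ := exists_cube_root hK
  exact ⟨isConj_of_five hw hK, centralizer_equiv hw hK (card_centralizer_le hK hw)⟩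

end H60.C5
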