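import Cfsg.Agent.H60.C5.Weyl
import Cfsg.Agent.H52.TwistField
import Cfsg.Agent.H52.RankOne
import Cfsg.Agent.H53.GraphTables
import Cfsg.Prelude.Def_LieTwisted

/-!
Diagonalisation of the element of order five over the field with sixteen elements and the induced twisting
endomorphism.
-/

set_option autoImplicit false
set_option maxRecDepth 100000

namespace H60.C5

open Cfsg.Lie H34.Tori

/-- Upper elementary matrices. -/
def uM {E : Type*} [Field E] (t : E) : Matrix.SpecialLinearGroup (Fin 2) E :=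
  ⟨!![1, t; 0, 1], by simp [Matrix.det_fin_two]⟩

/-- Lower elementary matrices. -/
def lM {E : Type*} [Field E] (t : E) : Matrix.SpecialLinearGroup (Fin 2) E :=
  ⟨!![1, 0; t, 1], by simp [Matrix.det_fin_two]⟩

theorem uM_val {E : Type*} [Field E] (t : E) : (uM t : Matrix (Fin 2) (Fin 2) E) = !![1, t; 0, 1] := rfl

theorem lM_val {E : Type*} [Field E] (t : E) : (lM t : Matrix (Fin 2) (Fin 2) E) = !![1, 0; t, 1] := rfl

/-- A product of three elementary matrices. -/
def eM {E : Type*} [Field E] (a c b : E) : Matrix.SpecialLinearGroup (Fin 2) E := uM a * lM c * uM b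

/-- The product giving a diagonal matrix. -/
def dM {E : Type*} [Field E] (c : E) : Matrix.SpecialLinearGroup (Fin 2) E :=
  eM c (-c⁻¹) c * eM (-1) (-(-1)⁻¹) (-1)

theorem dM_val {E : Type*} [Field E] {c : E} (hc : c ≠ 0) :
    (dM c : Matrix (Fin 2) (Fin 2) E) = !![c, 0; 0, c⁻¹] := by
  simp only [dM, eM, Matrix.SpecialLinearGroup.coe_mul, uM_val, lM_val]
  ext i j
  fin_cases i <;> fin_cases j <;> simp [Matrix.mul_apply, Fin.sum_univ_two, inv_neg, hc]

/-- The matrix identities behind the diagonalisation. -/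
theorem mat_ids {E : Type*} [Field E] [CharP E 2] {v z : E} (hv : v * v = v + 1)
    (hz : z * z = v * z + 1) :
    eM z v v * eM 1 1 1 = eM (z ^ 4) (v ^ 4) (v ^ 4) ∧ lM 1 * uM v * eM z v v = eM z v v * dM z ∧
      lM 1 * uM (1 + v) * eM (z ^ 2) (v ^ 2) (v ^ 2) = eM (z ^ 2) (v ^ 2) (v ^ 2) * dM (z ^ 2) := by
  have h2 : (2 : E) = 0 := CharTwo.two_eq_zero
  have hz0 : z ≠ 0 := fun h => by rw [h] at hz; simp at hz
  have hzi : z⁻¹ = z + v := by
    apply inv_eq_of_mul_eq_one_right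
    linear_combination hz + (v * z) * h2
  have hzi2 : (z ^ 2)⁻¹ = (z + v) ^ 2 := by rw [← inv_pow, hzi]
  have hv4 : v ^ 4 = v := by linear_combination (v * v + v + 2) * hv + (v + 1) * h2
  have hv2 : v ^ 2 = v + 1 := by rw [pow_two]; exact hv
  refine ⟨?_, ?_, ?_⟩ <;> apply Subtype.ext
  · simp only [eM, Matrix.SpecialLinearGroup.coe_mul, uM_val, lM_val]
    ext i j
    fin_cases i <;> fin_cases j <;> simp [Matrix.mul_apply, Fin.sum_univ_two, hv4] <;> grind
  · simp only [Matrix.SpecialLinearGroup.coe_mul, dM_val hz0, eM, uM_val, lM_val, hzi]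
    ext i j
    fin_cases i <;> fin_cases j <;> simp [Matrix.mul_apply, Fin.sum_univ_two] <;> grind
  · simp only [Matrix.SpecialLinearGroup.coe_mul, dM_val (pow_ne_zero 2 hz0), eM, uM_val, lM_val, hzi2, hv2]
    ext i j
    fin_cases i <;> fin_cases j <;> simp [Matrix.mul_apply, Fin.sum_univ_two] <;> grind

/-- The permutation of the roots under the twisting endomorphism. -/
def pin (r : Fin chevE6.nroots) : Fin chevE6.nroots :=
  ctx.W.sigma ⟨0, by decide⟩ (H53.e6Sym.q r)

theorem pin_val (r : Fin chevE6.nroots) :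
    (pin r).val = chevE6.reflectRoot 0 (H53.e6Sym.q r).val := ctx.sigma_val _ _

/-- The weight of the torus element before conversion. -/
def gexp : Fin chevE6.rank → ZMod 15 := fun i => (([3, 0, 0, 0, 0, 6] : List ℕ).getD i.val 0 : ZMod 15)

theorem gexp_wgt : Matrix.vecMul gexp (H34.Tori.toZ 15 (cmat chevE6)) = wgt := by decide +kernel

variable {E : Type*} [Field E] [CharP E 2]

theorem neg_one_eq : (-1 : E) = 1 := CharTwo.neg_eq 1

theorem sign_cast {s : ℤ} (h : s = 1 ∨ s = -1) : (s : E) = 1 := by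
  rcases h with rfl | rfl <;> simp [CharTwo.neg_eq]

/-- The root elements of commuting roots commute. -/
theorem rt_comm {r s : ℕ} (hr : r < chevE6.nroots) (hs : s < chevE6.nroots) (h : H52.RootsCommute chevE6 r s)
    (t u : E) : Commute (H52.rt chevE6 r t) (H52.rt chevE6 s u) := by
  have := H52.checkedE6.comm_rt hr hs h.1 h.2.1 t u
  rw [ChevalleyDatum.commWord, h.2.2] at this
  simpa [H52.wordRt, Commute, SemiconjBy] using this.symm

variable (E) in
/-- The group of a pair of opposite root subgroups. -/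
noncomputable def pairS (r : ℕ) : Subgroup (GL chevE6.Idx E) :=
  Subgroup.closure {g | ∃ t : E, g = H52.rt chevE6 r t ∨ g = H52.rt chevE6 (chevE6.neg r) t}

theorem exists_phi {r : ℕ} (hr : r < chevE6.nroots) :
    ∃ φ : Matrix.SpecialLinearGroup (Fin 2) E →* GL chevE6.Idx E,
      (∀ g, φ g ∈ pairS E r) ∧ ∀ t : E, φ (uM t) = H52.rt chevE6 r t ∧
        φ (lM t) = H52.rt chevE6 (chevE6.neg r) t := by
  have hC := H52.checkedE6
  obtain ⟨φ, hrange, hφ⟩ := hC.exists_sl2_hom (F := E) hr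
  refine ⟨φ, fun g => ?_, fun t => ⟨hC.eq_rt ((hφ (uM t) t).1 rfl), hC.eq_rt ((hφ (lM t) t).2 rfl)⟩⟩
  have hle : chevE6.rootSubgroup E r ⊔ chevE6.rootSubgroup E (chevE6.neg r) ≤ pairS E r := by
    refine sup_le ?_ ?_ <;> rw [hC.rootSubgroup_eq, Subgroup.closure_le] <;> rintro g ⟨t, rfl⟩
    · exact Subgroup.subset_closure ⟨t, Or.inl rfl⟩
    · exact Subgroup.subset_closure ⟨t, Or.inr rfl⟩
  exact hle (hrange ▸ ⟨g, rfl⟩)

theorem pair_roots : chevE6.simple 0 = 56 ∧ chevE6.simple 5 = 36 ∧ chevE6.neg 56 = 15 ∧ chevE6.neg 36 = 35 ∧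
    (∀ r ∈ [56, 15], ∀ s ∈ [36, 35], H52.RootsCommute chevE6 r s) ∧ H52.RootsCommute chevE6 15 35 ∧
    H52.RootsCommute chevE6 56 36 ∧ H52.RootsCommute chevE6 42 37 ∧ H52.RootsCommute chevE6 29 34 := by
  decide +kernel

theorem qn_vals : H53.e6Sym.qn 56 = 36 ∧ H53.e6Sym.qn 36 = 56 ∧ H53.e6Sym.qn 15 = 35 ∧
    H53.e6Sym.qn 35 = 15 ∧ H53.e6Sym.qn 42 = 37 ∧ H53.e6Sym.qn 37 = 42 ∧ H53.e6Sym.qn 29 = 34 ∧
    H53.e6Sym.qn 34 = 29 ∧ H53.e6Sym.qn 46 = 46 ∧ H53.e6Sym.qn 25 = 25 ∧ H53.e6Sym.qn 39 = 39 ∧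
    H53.e6Sym.qn 32 = 32 := by decide +kernel

theorem pair_commute {g h : GL chevE6.Idx E} (hg : g ∈ pairS E 56) (hh : h ∈ pairS E 36) :
    Commute g h := by
  obtain ⟨-, -, n1, n6, hc, -⟩ := pair_roots
  have key : ∀ g ∈ {g : GL chevE6.Idx E | ∃ t : E, g = H52.rt chevE6 56 t ∨
      g = H52.rt chevE6 (chevE6.neg 56) t}, ∀ h ∈ pairS E 36, Commute g h := by
    intro g hg h hh
    induction hh using Subgroup.closure_induction with
    | mem z hz =>
      obtain ⟨t, rfl | rfl⟩ := hg <;> obtain ⟨u, rfl | rfl⟩ := hz <;> (try rw [n1]) <;> (try rw [n6]) <;>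
        exact rt_comm (by decide) (by decide) (hc _ (by simp) _ (by simp)) _ _
    | one => exact Commute.one_right _
    | mul a b _ _ ha hb => exact ha.mul_right hb
    | inv a _ ha => exact ha.inv_right
  induction hg using Subgroup.closure_induction with
  | mem z hz => exact key z hz h hh
  | one => exact Commute.one_left _
  | mul a b _ _ ha hb => exact ha.mul_left hb
  | inv a _ ha => exact ha.inv_left

variable [Fintype E]

theorem exists_twist {K : Type*} [Field K] [Fintype K] [CharP K 2] (hK : Fintype.card K = 4) (ι : K →+* E)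
    {w : K} (hw : w * w = w + 1) (e : Multiplicative (ZMod 15) ≃* Eˣ) {z : E}
    (hz : z * z = ι w * z + 1) (he : (e (Multiplicative.ofAdd (3 : ZMod 15)) : E) = z) :
    ∃ (y : GL chevE6.Idx E) (s : GL chevE6.Idx E →* GL chevE6.Idx E),
      y ∈ chevE6.group E ∧
      H52.rt chevE6 15 1 * H52.rt chevE6 35 1 * (H52.rt chevE6 56 (ι w) * H52.rt chevE6 36 (1 + ι w)) * y =
        y * tor ctx e wgt ∧
      (∀ g ∈ twistedE6 K 2, s (y⁻¹ * H54.glF chevE6 ι g * y) = y⁻¹ * H54.glF chevE6 ι g * y) ∧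
      ∀ (r : Fin chevE6.nroots) (t : E), s (H52.rt chevE6 r.val t) = H52.rt chevE6 (pin r).val (t ^ 2) := by
  have hC := H52.checkedE6
  obtain ⟨n0, n5, n1, n6, -, c15, c56, c42, c29⟩ := pair_roots
  obtain ⟨q56, q36, q15, q35, q42, q37, q29, q34, q46, q25, q39, q32⟩ := qn_vals
  let fr : E ≃+* E := RingEquiv.ofBijective (frobenius E 2)
    (Finite.injective_iff_bijective.1 (frobenius_inj E 2))
  set σ := H52.twistAut H53.e6Sym H53.e6Sym_valid fr with hσdef
  have hfr : ∀ x : E, fr x = x ^ 2 := fun x => rfl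
  have hσ : ∀ (r : Fin chevE6.nroots) (t : E),
      σ (H52.rt chevE6 r.val t) = H52.rt chevE6 (H53.e6Sym.q r).val (t ^ 2) := fun r t => by
    rw [hσdef, H52.twistAut_rt hC, sign_cast (mul_self_eq_one_iff.1 (H53.e6Sym_valid.sgn_sq r)), one_mul, hfr]
  have hσn : ∀ (r : ℕ), r < chevE6.nroots → ∀ t : E,
      σ (H52.rt chevE6 r t) = H52.rt chevE6 (H53.e6Sym.qn r) (t ^ 2) := fun r hr t => by
    rw [hσ ⟨r, hr⟩, H53.BasisSym.qn, dif_pos hr]
  -- images of the twisted group are fixed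
  have hKfour : ∀ t : K, t ^ 4 = t := fun t => hK ▸ FiniteField.pow_card t
  have hfix : ∀ g ∈ twistedE6 K 2, σ (H54.glF chevE6 ι g) = H54.glF chevE6 ι g := by
    intro g hg
    induction hg using Subgroup.closure_induction with
    | mem g hg =>
      obtain ⟨word, hword, hgw⟩ := hg
      obtain rfl : g = H52.wordRt chevE6 word := Units.ext (by rw [hgw, hC.coe_wordRt])
      rcases hword with ⟨t, ht, r, hr, rfl⟩ | ⟨t, rs, hrs, rfl⟩
      · simp only [H52.wordRt, List.map_cons, List.map_nil, List.prod_cons, List.prod_nil, mul_one,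
          ctx.glF_rt]
        simp only [List.mem_cons, List.not_mem_nil, or_false] at hr
        rcases hr with rfl | rfl | rfl | rfl <;>
          rw [hσn _ (by decide), ← map_pow, ht]
        exacts [congrArg (fun k => H52.rt chevE6 k (ι t)) q46, congrArg (fun k => H52.rt chevE6 k (ι t)) q25,
          congrArg (fun k => H52.rt chevE6 k (ι t)) q39, congrArg (fun k => H52.rt chevE6 k (ι t)) q32]
      · have hpair : ∀ r s : ℕ, r < chevE6.nroots → s < chevE6.nroots → H53.e6Sym.qn r = s →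
            H53.e6Sym.qn s = r → H52.RootsCommute chevE6 r s →
            σ (H54.glF chevE6 ι (H52.wordRt chevE6 [(r, t), (s, t ^ 2)])) =
              H54.glF chevE6 ι (H52.wordRt chevE6 [(r, t), (s, t ^ 2)]) := by
          intro r s hr hs h1 h2 h3
          simp only [H52.wordRt, List.map_cons, List.map_nil, List.prod_cons, List.prod_nil, mul_one,
            map_mul, ctx.glF_rt, hσn _ hr, hσn _ hs, h1, h2, map_pow]
          rw [show (ι t ^ 2) ^ 2 = ι t by rw [← pow_mul, ← map_pow, hKfour]]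
          exact (rt_comm hr hs h3 _ _).eq.symm
        simp only [List.mem_cons, List.not_mem_nil, or_false] at hrs
        rcases hrs with rfl | rfl | rfl | rfl
        exacts [hpair _ _ (by decide) (by decide) q56 q36 c56, hpair _ _ (by decide) (by decide) q15 q35 c15,
          hpair _ _ (by decide) (by decide) q42 q37 c42, hpair _ _ (by decide) (by decide) q29 q34 c29]
    | one => rw [map_one, map_one]
    | mul a b _ _ ha hb => rw [map_mul, map_mul, ha, hb]
    | inv a _ ha => rw [map_inv, map_inv, ha]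
  -- the two homomorphisms of rank one
  obtain ⟨φ1, m1, h1⟩ := exists_phi (E := E) (r := 56) (by decide)
  obtain ⟨φ6, m6, h6⟩ := exists_phi (E := E) (r := 36) (by decide)
  rw [n1] at h1
  rw [n6] at h6
  let Φ : Matrix.SpecialLinearGroup (Fin 2) E × Matrix.SpecialLinearGroup (Fin 2) E →* GL chevE6.Idx E :=
    φ1.noncommCoprod φ6 fun a b => pair_commute (m1 a) (m6 b)
  have hΦ : ∀ a b, Φ (a, b) = φ1 a * φ6 b := fun a b => rfl
  have hs16 : ∀ a c b : E, σ (φ1 (eM a c b)) = φ6 (eM (a ^ 2) (c ^ 2) (b ^ 2)) ∧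
      σ (φ6 (eM a c b)) = φ1 (eM (a ^ 2) (c ^ 2) (b ^ 2)) := fun a c b => by
    constructor <;>
      simp only [eM, map_mul, (h1 _).1, (h1 _).2, (h6 _).1, (h6 _).2, hσn 56 (by decide), hσn 15 (by decide),
        hσn 36 (by decide), hσn 35 (by decide), q56, q36, q15, q35]
  set v := ι w
  have hv : v * v = v + 1 := by rw [← map_mul, hw, map_add, map_one]
  obtain ⟨idJ, idA, idB⟩ := mat_ids hv hz
  set y := Φ (eM z v v, eM (z ^ 2) (v ^ 2) (v ^ 2)) with hy
  have hn : Φ (eM 1 1 1, 1) = H53.nGL chevE6 (chevE6.simple 0) (1 : E) := by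
    rw [hΦ, map_one, mul_one, n0, H53.nGL, n1, inv_one, neg_one_eq]
    simp only [eM, map_mul, (h1 _).1, (h1 _).2]
  have hσy : σ y = y * H53.nGL chevE6 (chevE6.simple 0) (1 : E) := by
    rw [← hn, hy, ← map_mul, Prod.mk_mul_mk, mul_one, idJ, hΦ, hΦ, map_mul, (hs16 _ _ _).1, (hs16 _ _ _).2,
      ← (pair_commute (m1 _) (m6 _)).eq]
    simp only [← pow_mul]
  have hnn : (H53.nGL chevE6 (chevE6.simple 0) (1 : E))⁻¹ = H53.nGL chevE6 (chevE6.simple 0) 1 := by
    rw [← H53.nGL_neg hC, neg_one_eq]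
  let s : GL chevE6.Idx E →* GL chevE6.Idx E :=
    (MulAut.conj (H53.nGL chevE6 (chevE6.simple 0) (1 : E))).toMonoidHom.comp σ.toMonoidHom
  refine ⟨y, s, ?_, ?_, fun g hg => ?_, fun r t => ?_⟩
  · have hle : ∀ r, pairS E r ≤ chevE6.group E := fun r => by
      rw [pairS, Subgroup.closure_le]
      rintro g ⟨t, rfl | rfl⟩ <;> exact hC.rt_mem_group _ _
    exact mul_mem (hle _ (m1 _)) (hle _ (m6 _))
  · have hA : H52.rt chevE6 15 1 * H52.rt chevE6 35 1 * (H52.rt chevE6 56 v * H52.rt chevE6 36 (1 + v)) =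
        Φ (lM 1 * uM v, lM 1 * uM (1 + v)) := by
      rw [← Prod.mk_mul_mk, map_mul, hΦ, hΦ, (h1 _).2, (h1 _).1, (h6 _).2, (h6 _).1]
    have hD1 : ∀ c : E, φ1 (dM c) = H52.hElt chevE6 56 c := fun c => by
      rw [H52.Checked.hElt_eq, H52.Checked.nElt_eq, H52.Checked.nElt_eq, n1]
      simp only [dM, eM, map_mul, (h1 _).1, (h1 _).2]
    have hD6 : ∀ c : E, φ6 (dM c) = H52.hElt chevE6 36 c := fun c => by
      rw [H52.Checked.hElt_eq, H52.Checked.nElt_eq, H52.Checked.nElt_eq, n6]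
      simp only [dM, eM, map_mul, (h6 _).1, (h6 _).2]
    have hu3 : (uval e (3 : ZMod 15) : E) = z := he
    have hu6 : (uval e (6 : ZMod 15) : E) = z ^ 2 := by
      rw [show (6 : ZMod 15) = 3 + 3 from by decide, uval_add, Units.val_mul, hu3, pow_two]
    have ht : H52.hElt chevE6 56 z * H52.hElt chevE6 36 (z ^ 2) = tor ctx e wgt := by
      rw [← gexp_wgt, ← torus_eq_tor ctx e gexp, ← hu6, ← hu3, ← n0, ← n5,
        hC.hElt_simple_eq_torus ⟨0, by decide⟩, hC.hElt_simple_eq_torus ⟨5, by decide⟩, ← map_mul]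
      congr 1
      funext i
      fin_cases i <;> simp [gexp, uval_zero, Pi.mulSingle_apply, Fin.ext_iff]
    rw [hA, ← ht, hy, ← map_mul, Prod.mk_mul_mk, idA, idB, ← Prod.mk_mul_mk, map_mul, hΦ (dM z), hD1, hD6]
  · show MulAut.conj _ (σ _) = _
    rw [MulAut.conj_apply, map_mul σ, map_mul σ, map_inv σ, hfix g hg, hσy, mul_inv_rev, hnn]
    have hsq : H53.nGL chevE6 (chevE6.simple 0) (1 : E) * H53.nGL chevE6 (chevE6.simple 0) 1 = 1 := by
      conv_lhs => arg 1; rw [← hnn]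
      exact inv_mul_cancel _
    simp only [← mul_assoc, hsq, one_mul]
    simp only [mul_assoc, hsq, mul_one]
  · show MulAut.conj _ (σ _) = _
    obtain ⟨ε, hε, h⟩ := ctx.nw_conj_rt (F := E) [⟨0, by decide⟩] (H53.e6Sym.q r) (t ^ 2)
    rw [H54.Ctx.nw_cons, H54.Ctx.nw_nil, mul_one] at h
    rw [hσ, MulAut.conj_apply, h, sign_cast hε, one_mul]
    congr 2

end H60.C5
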