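/-!
The stabiliser of a weight of order five in the Weyl group of E₆: images of the fundamental roots and words.
-/

set_option autoImplicit false

namespace H60.C5

/-- The images of the six fundamental roots under the twenty-four permutations. -/
def goodIms : List (List Nat) :=
  [[56, 46, 42, 39, 37, 36],
   [56, 25, 42, 47, 37, 36],
   [56, 47, 43, 32, 40, 36],
   [56, 46, 5, 70, 3, 36],
   [56, 39, 50, 24, 48, 36],
   [56, 25, 5, 71, 3, 36],
   [56, 24, 43, 46, 40, 36],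
   [56, 47, 5, 69, 3, 36],
   [56, 71, 43, 1, 40, 36],
   [56, 32, 50, 25, 48, 36],
   [56, 39, 5, 69, 3, 36],
   [56, 70, 50, 0, 48, 36],
   [56, 24, 5, 71, 3, 36],
   [56, 71, 42, 2, 37, 36],
   [56, 0, 43, 46, 40, 36],
   [56, 32, 5, 70, 3, 36],
   [56, 70, 42, 2, 37, 36],
   [56, 1, 50, 25, 48, 36],
   [56, 69, 50, 0, 48, 36],
   [56, 0, 42, 47, 37, 36],
   [56, 69, 43, 1, 40, 36],
   [56, 1, 42, 39, 37, 36],
   [56, 2, 50, 24, 48, 36],
   [56, 2, 43, 32, 40, 36]]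

/-- Their words in three reflections. -/
def goodWds : List (List Nat) :=
  [[], [0], [1], [2], [0, 1], [0, 2], [1, 0], [1, 2], [2, 1], [0, 1, 0], [0, 1, 2], [0, 2, 1], [1, 0, 2], [1, 2, 1], [2, 1, 0], [0, 1, 0, 2], [0, 1, 2, 1], [0, 2, 1, 0], [1, 0, 2, 1], [1, 2, 1, 0], [0, 1, 0, 2, 1], [0, 1, 2, 1, 0], [1, 0, 2, 1, 0], [0, 1, 0, 2, 1, 0]]

end H60.C5
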