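import Cfsg.Agent.H34.RegularTorus
import Cfsg.Agent.H52.DataE6
import Cfsg.Agent.H53.WeylE6
import Cfsg.Agent.H60.C5.WeylData

/-!
The Weyl group elements fixing a weight of order five modulo fifteen are twenty-four.
-/

set_option autoImplicit false
set_option maxRecDepth 100000

namespace H60.C5

open Cfsg.Lie H34.Tori Matrix

/-- The checked data of type E₆. -/
def ctx : H54.Ctx chevE6 :=
  ⟨H52.tablesE6, H52.checkedE6, H53.weylForE6, H54.chainOK_of_mem _ (by simp)⟩

/-- The weight of the diagonalised element. -/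
def wgt : Fin chevE6.rank → ZMod 15 := fun i => (([6, 0, 12, 0, 9, 12] : List ℕ).getD i.val 0 : ZMod 15)

/-- The value of the weight on a root, computed. -/
def wv (r : ℕ) : ℕ :=
  ((((List.range 6).map fun j => (([6, 0, 12, 0, 9, 12] : List ℕ).getD j 0 : ℤ) *
    H52.tablesE6.co r j).sum) % 15).toNat

/-- The symmetric form on the roots, computed. -/
def form (a b : ℕ) : ℤ :=
  ((List.range 6).map fun j => H52.tablesE6.co a j * chevE6.cartan j b).sum

/-- The three blocks of reflections. -/
def blocks : List (List ℕ) := [[1], [3], [4, 5, 2, 3, 4, 1, 3, 2, 0, 2, 3, 1, 4, 3, 2, 5, 4]]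

/-- The reflections of a word in blocks. -/
def blockWord (l : List ℕ) : List (Fin chevE6.rank) :=
  (l.flatMap fun b => blocks.getD b []).map fun i => (⟨i % 6, Nat.mod_lt _ (by norm_num)⟩ : Fin 6)

/-- The twenty-four words. -/
def stabWord (k : Fin 24) : List (Fin chevE6.rank) := blockWord (goodWds.getD k.val [])

/-- A word applied to a root. -/
def act (L : List (Fin chevE6.rank)) (r : ℕ) : ℕ := L.foldr (fun i s => chevE6.reflectRoot i.val s) r

/-- The images compatible with the weight and the form. -/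
def search : ℕ → List (List ℕ)
  | 0 => [[]]
  | k + 1 => (search k).flatMap fun im =>
      ((List.range 72).filter fun r =>
        (wv r == wv (chevE6.simple k)) &&
          (List.range k).all fun j => form (im.getD j 0) r == form (chevE6.simple j) (chevE6.simple k)).map
        fun r => im ++ [r]

/-- The class test modulo three. -/
def classB (im : List ℕ) : Bool :=
  (List.range 6).all fun j =>
    (((List.range 6).map fun k => H52.tablesE6.co (im.getD k 0) j * ([1, 0, 2, 0, 1, 2] : List ℤ).getD k 0).sum) % 3 ==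
      ([1, 0, 2, 0, 1, 2] : List ℤ).getD j 0

theorem search_ok : ((search 6).all fun im => !classB im || goodIms.elem im) = true := by decide +kernel

theorem ims_ok : ((List.finRange 24).all fun k =>
    (List.range 6).all fun j => Nat.beq (act (stabWord k) (chevE6.simple j)) ((goodIms.getD k.val []).getD j 0)) = true ∧
    goodIms.length = 24 := by decide +kernel

theorem wv_ok : ((List.range 72).all fun r => decide (wv r < 15)) = true := by decide +kernel

theorem wperm_act (L : List (Fin chevE6.rank)) (r : Fin chevE6.nroots) :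
    (ctx.wperm L r).val = act L r.val := by
  induction L with
  | nil => rfl
  | cons i L ih =>
    rw [ctx.wperm_cons, Equiv.Perm.mul_apply, ctx.sigma_val, ih]
    rfl

theorem wv_spec (r : Fin chevE6.nroots) : (wv r.val : ZMod 15) = rval ctx wgt r := by
  have h : ∀ s : Fin 72, (wv s.val : ZMod 15) =
      ∑ j : Fin 6, (([6, 0, 12, 0, 9, 12] : List ℕ).getD j.val 0 : ZMod 15) * (H52.tablesE6.co s.val j.val : ZMod 15) := by
    intro s
    have hnn : (0 : ℤ) ≤ (((List.range 6).map fun j => (([6, 0, 12, 0, 9, 12] : List ℕ).getD j 0 : ℤ) *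
        H52.tablesE6.co s.val j).sum) % 15 := Int.emod_nonneg _ (by norm_num)
    rw [wv, ← Int.cast_natCast, Int.toNat_of_nonneg hnn, show (15 : ℤ) = ((15 : ℕ) : ℤ) from rfl,
      ZMod.intCast_mod, ← List.sum_toFinset _ List.nodup_range, List.toFinset_range, Finset.sum_range,
      Int.cast_sum]
    refine Finset.sum_congr rfl fun j _ => ?_
    push_cast
    rfl
  exact h r

theorem form_spec (a b : Fin chevE6.nroots) :
    form a.val b.val = cov ctx a ⬝ᵥ (cmat chevE6 *ᵥ cov ctx b) := by
  rw [form, ← List.sum_toFinset _ List.nodup_range, List.toFinset_range, Finset.sum_range]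
  refine Finset.sum_congr rfl fun j _ => ?_
  rw [← cartan_cov ctx j b]
  rfl

theorem smat_form : ∀ i : Fin chevE6.rank,
    ((smat chevE6 i)ᵀ * cmat chevE6 * smat chevE6 i) = cmat chevE6 := by decide +kernel

/-- The vector of the centre of the root lattice modulo three. -/
def cls : Fin chevE6.rank → ZMod 3 := fun i => (([1, 0, 2, 0, 1, 2] : List ℕ).getD i.val 0 : ZMod 3)

theorem smat_cls : ∀ i : Fin chevE6.rank, H34.Tori.toZ 3 (smat chevE6 i) *ᵥ cls = cls := by decide +kernel

theorem cartan_cls : (fun j => (5 : ZMod 15) * (H34.Tori.toZ 15 (cmat chevE6) *ᵥ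
    fun i => (([1, 0, 2, 0, 1, 2] : List ℕ).getD i.val 0 : ZMod 15)) j) = 0 := by decide +kernel

theorem lmat_wperm (L : List (Fin chevE6.rank)) :
    (lmat ctx (ctx.wperm L))ᵀ * cmat chevE6 * lmat ctx (ctx.wperm L) = cmat chevE6 ∧
      H34.Tori.toZ 3 (lmat ctx (ctx.wperm L)) *ᵥ cls = cls := by
  induction L with
  | nil =>
    rw [ctx.wperm_nil, lmat_one, transpose_one, Matrix.one_mul, Matrix.mul_one, H34.Tori.toZ,
      Matrix.map_one _ (map_zero _) (map_one _), Matrix.one_mulVec]
    exact ⟨rfl, rfl⟩
  | cons i L ih =>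
    have hs : lmat ctx (ctx.W.sigma i) = smat chevE6 i := by
      ext j k
      rw [lmat, Matrix.of_apply, cov_sigma, cov_simple, Matrix.mulVec_single_one]
      rfl
    rw [ctx.wperm_cons, lmat_mul ctx (Subgroup.subset_closure ⟨i, rfl⟩), hs]
    constructor
    · rw [transpose_mul]
      calc (lmat ctx (ctx.wperm L))ᵀ * (smat chevE6 i)ᵀ * cmat chevE6 *
            (smat chevE6 i * lmat ctx (ctx.wperm L)) =
          (lmat ctx (ctx.wperm L))ᵀ * ((smat chevE6 i)ᵀ * cmat chevE6 * smat chevE6 i) *
            lmat ctx (ctx.wperm L) := by simp only [Matrix.mul_assoc]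
        _ = _ := by rw [smat_form, ih.1]
    · rw [H34.Tori.toZ, Matrix.map_mul, ← Matrix.mulVec_mulVec]
      exact (congrArg _ ih.2).trans (smat_cls i)

theorem exists_stabWord (L : List (Fin chevE6.rank))
    (hf : ∀ r, rval ctx wgt (ctx.wperm L r) = rval ctx wgt r) :
    ∃ k : Fin 24, ctx.wperm (stabWord k) = ctx.wperm L := by
  set π := ctx.wperm L
  have hπ := wperm_mem_wgrp ctx L
  let sp : ℕ → Fin chevE6.nroots := fun j => if h : j < chevE6.rank then simpleF ctx ⟨j, h⟩ else simpleF ctx ⟨0, by decide⟩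
  let ims : ℕ → List ℕ := fun k => (List.range k).map fun j => (π (sp j)).val
  have hsp : ∀ j, j < 6 → (sp j).val = chevE6.simple j := fun j hj => by
    simp only [sp, dif_pos (show j < chevE6.rank from hj)]; rfl
  have hform : ∀ a b, form (π a).val (π b).val = form a.val b.val := fun a b => by
    rw [form_spec, form_spec, ← lmat_spec ctx hπ, ← lmat_spec ctx hπ]
    conv_rhs => rw [← (lmat_wperm L).1, ← Matrix.mulVec_mulVec, ← Matrix.mulVec_mulVec,
      Matrix.dotProduct_mulVec, Matrix.vecMul_transpose]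
  have hwv : ∀ r : Fin chevE6.nroots, wv (π r).val = wv r.val := fun r => by
    have h := congrArg ZMod.val ((wv_spec (π r)).trans ((hf r).trans (wv_spec r).symm))
    have hlt : ∀ s : Fin chevE6.nroots, wv s.val < 15 := fun s => by
      simpa using List.all_eq_true.1 wv_ok s.val (List.mem_range.2 s.isLt)
    rwa [ZMod.val_natCast, ZMod.val_natCast, Nat.mod_eq_of_lt (hlt _), Nat.mod_eq_of_lt (hlt _)] at h
  have hget : ∀ k j, j < k → (ims k).getD j 0 = (π (sp j)).val := fun k j hj => by
    simp [ims, hj]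
  have hsearch : ∀ k ≤ 6, ims k ∈ search k := by
    intro k
    induction k with
    | zero => intro _; simp [ims, search]
    | succ k ih =>
      intro hk
      refine List.mem_flatMap.2 ⟨ims k, ih (by omega), List.mem_map.2 ⟨(π (sp k)).val, ?_, ?_⟩⟩
      · simp only [List.mem_filter, List.mem_range, Bool.and_eq_true, beq_iff_eq, List.all_eq_true]
        refine ⟨(π (sp k)).isLt, ?_, fun j hj => ?_⟩
        · rw [hwv, hsp k (by omega)]
        · rw [hget k j hj, hform, hsp j (by omega), hsp k (by omega)]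
      · simp [ims, List.range_succ]
  have hcls : classB (ims 6) = true := by
    simp only [classB, List.all_eq_true, List.mem_range, beq_iff_eq]
    intro j hj
    have h := congrFun (lmat_wperm L).2 ⟨j, hj⟩
    have h2 : ((((List.range 6).map fun k => H52.tablesE6.co ((ims 6).getD k 0) j *
        ([1, 0, 2, 0, 1, 2] : List ℤ).getD k 0).sum : ℤ) : ZMod 3) =
        ((([1, 0, 2, 0, 1, 2] : List ℤ).getD j 0 : ℤ) : ZMod 3) := by
      have e : ∀ k : Fin chevE6.rank, cls k = ((([1, 0, 2, 0, 1, 2] : List ℤ).getD k.val 0 : ℤ) : ZMod 3) := by decide +kernel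
      rw [← e ⟨j, hj⟩, ← h, ← List.sum_toFinset _ List.nodup_range, List.toFinset_range, Finset.sum_range,
        Int.cast_sum]
      simp only [Matrix.mulVec, dotProduct, H34.Tori.toZ, Matrix.map_apply]
      refine Finset.sum_congr rfl fun k _ => ?_
      rw [Int.cast_mul, e k, hget 6 k.val k.isLt,
        show (π (sp k.val)) = π (simpleF ctx k) by simp only [sp, dif_pos (show k.val < chevE6.rank from k.isLt)]; rfl]
      rfl
    rw [ZMod.intCast_eq_intCast_iff'] at h2
    have hr : ∀ j < 6, ([1, 0, 2, 0, 1, 2] : List ℤ).getD j 0 % (3 : ℕ) = ([1, 0, 2, 0, 1, 2] : List ℤ).getD j 0 := by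
      decide
    rwa [hr j hj] at h2
  have hmem : ims 6 ∈ goodIms := by
    have := List.all_eq_true.1 search_ok _ (hsearch 6 le_rfl)
    simpa [hcls] using this
  obtain ⟨k, hk, hke⟩ := List.getElem_of_mem hmem
  refine ⟨⟨k, ims_ok.2 ▸ hk⟩, ?_⟩
  set ρ := ctx.wperm (stabWord ⟨k, ims_ok.2 ▸ hk⟩)
  have hρ := wperm_mem_wgrp ctx (stabWord ⟨k, ims_ok.2 ▸ hk⟩)
  have hl : lmat ctx ρ = lmat ctx π := by
    ext j i
    have e : ρ (simpleF ctx i) = π (simpleF ctx i) := by
      apply Fin.ext
      rw [wperm_act]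
      have h1 := List.all_eq_true.1 (List.all_eq_true.1 ims_ok.1 ⟨k, ims_ok.2 ▸ hk⟩ (List.mem_finRange _))
        i.val (List.mem_range.2 i.isLt)
      rw [show (simpleF ctx i).val = chevE6.simple i.val from rfl, Nat.eq_of_beq_eq_true h1]
      show (goodIms.getD k []).getD i.val 0 = _
      rw [List.getD_eq_getElem _ _ hk, hke, hget 6 i.val i.isLt]
      simp [sp, show i.val < chevE6.rank from i.isLt]
    rw [lmat, lmat, Matrix.of_apply, Matrix.of_apply, e]
  exact Equiv.ext fun r => cov_injective ctx (by rw [← lmat_spec ctx hρ, ← lmat_spec ctx hπ, hl])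

end H60.C5
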